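import Cfsg.Agent.OddHalf.D8.Phi.Lines

/-!
# ODD half, D8, K = Ru: the end (helper879)

`structure Facts K D z q ρ v₁ q' ρ' y y' v₂ w s u₂ u₃ u₄` lists the facts on `K` which are used; all pairs `(p, q)` below are
ordered pairs of elements of `D` (class 2A) up to conjugacy in `K`:

* `(z, q)` of type 640 with `C_K(C_K(z, q)) = ⟨z, q⟩`, cycled by `ρ`, and `v₁` such that `(z q, v₁)`, `(q, v₁)`,
  `(z, q v₁)` are of the same type;
* `(z, q')` of type 480 with `C_K(C_K(z, q')) = ⟨z, q', y⟩`, cycled by `ρ'`, `[ρ', y] = 1`, and `v₂` such that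
  `(z q', v₂)`, `(q', v₂)` are of type 640 and `(z, q', y)` is conjugate to `(z, q' v₂, y')`, `y ≠ y'`, `v₂ ≠ y y'`;
* `(z, w)` with `x = (z w)²`, the pairs `(z, x)`, `(w, x)` of type 640, `{k ∈ C_K(z, w, C_K(z, w)) | k² = 1} = {1, x}`;
* `s` such that `(z, s)` is conjugate to `(z, w)`, `(w, s)` is of type 640 and for `X = (z w s)²` the pairs `(z, X)`,
  `(w s, X)` are of type 480; `(z s)²` does not commute with `w`;
* all pairs of `z, u₂, u₃, u₄` are conjugate to `(z, w)`, and these four involutions generate `K`.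

`Facts.exists_hom`: a finite group `G` with an equivariant family has a homomorphism onto `{1, -1}` with `t ↦ -1`.
-/

set_option autoImplicit false

namespace Cfsg.Agent.OddHalf.D8.Phi.RuEnd

open Subgroup

variable {G : Type*} [Group G]

/-- the facts on `K`; see the header -/
structure Facts (K : Subgroup G) (D : Set G) (z q ρ v₁ q' ρ' y y' v₂ w s u₂ u₃ u₄ : G) : Prop where
  zD : z ∈ D
  qD : q ∈ D
  qD' : q' ∈ D
  wD : w ∈ D
  z1 : z ≠ 1
  -- type 640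
  qz : z * q = q * z
  qnz : z ≠ q
  ρK : ρ ∈ K
  ρ1 : ρ * z * ρ⁻¹ = q
  ρ2 : ρ * q * ρ⁻¹ = z * q
  cenq : ∀ k ∈ K, (∀ c ∈ K, c * z = z * c → c * q = q * c → c * k = k * c) →
    k = 1 ∨ k = z ∨ k = q ∨ k = z * q
  e1 : PC K z q (z * q) v₁
  e2 : PC K z q q v₁
  e3 : PC K z q z (q * v₁)
  v₁z : v₁ ≠ z
  -- type 480
  qz' : z * q' = q' * z
  qnz' : z ≠ q'
  ρK' : ρ' ∈ K
  ρ1' : ρ' * z * ρ'⁻¹ = q'
  ρ2' : ρ' * q' * ρ'⁻¹ = z * q'
  yy : y * y = 1
  yz : y * z = z * y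
  yq' : y * q' = q' * y
  ρy : ρ' * y * ρ'⁻¹ = y
  cenq' : ∀ k ∈ K, (∀ c ∈ K, c * z = z * c → c * q' = q' * c → c * k = k * c) →
    ∃ m : G, (m = 1 ∨ m = z ∨ m = q' ∨ m = z * q') ∧ (k = m ∨ k = m * y)
  f1 : PC K z q (z * q') v₂
  f2 : PC K z q q' v₂
  f3 : TC K z q' y z (q' * v₂) y'
  yy' : y ≠ y'
  v₂y : v₂ ≠ y * y'
  -- the pair `(z, w)` of type 5120
  lz : PC K z q z (z * w * (z * w))
  lw : PC K z q w (z * w * (z * w))
  cenw : ∀ k ∈ K, k * k = 1 → k * z = z * k → k * w = w * k →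
    (∀ c ∈ K, c * z = z * c → c * w = w * c → c * k = k * c) → k = 1 ∨ k = z * w * (z * w)
  -- the kill
  ps : PC K z w z s
  ws : PC K z q w s
  nz : PC K z q' z (z * (w * s) * (z * (w * s)))
  nw : PC K z q' (w * s) (z * (w * s) * (z * (w * s)))
  kill : z * s * (z * s) * w ≠ w * (z * s * (z * s))
  -- the clique
  c12 : PC K z w z u₂
  c13 : PC K z w z u₃
  c14 : PC K z w z u₄
  c23 : PC K z w u₂ u₃
  c24 : PC K z w u₂ u₄
  c34 : PC K z w u₃ u₄
  gen : closure ({z, u₂, u₃, u₄} : Set G) = K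
  cen : ∀ k ∈ K, (∀ c ∈ K, k * c = c * k) → k = 1

namespace Facts

variable {t : G} {K : Subgroup G} {D : Set G} {a : G → G} {z q ρ v₁ q' ρ' y y' v₂ w s u₂ u₃ u₄ : G}

theorem q1 (C : Facts K D z q ρ v₁ q' ρ' y y' v₂ w s u₂ u₃ u₄) : q ≠ 1 := by
  intro e
  have h := C.ρ1
  rw [e] at h
  apply C.z1
  calc z = ρ⁻¹ * (ρ * z * ρ⁻¹) * ρ := by group
    _ = 1 := by rw [h]; group

theorem q1' (C : Facts K D z q ρ v₁ q' ρ' y y' v₂ w s u₂ u₃ u₄) : q' ≠ 1 := by
  intro e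
  have h := C.ρ1'
  rw [e] at h
  apply C.z1
  calc z = ρ'⁻¹ * (ρ' * z * ρ'⁻¹) * ρ' := by group
    _ = 1 := by rw [h]; group

theorem zqD (h : Fam t K D a) (C : Facts K D z q ρ v₁ q' ρ' y y' v₂ w s u₂ u₃ u₄) : z * q ∈ D := by
  rw [← C.ρ2]
  exact h.conj q C.qD ρ C.ρK

theorem zqD' (h : Fam t K D a) (C : Facts K D z q ρ v₁ q' ρ' y y' v₂ w s u₂ u₃ u₄) : z * q' ∈ D := by
  rw [← C.ρ2']
  exact h.conj q' C.qD' ρ' C.ρK'

theorem t1 (h : Fam t K D a) : t ≠ 1 := fun e => h.tK (by rw [e]; exact K.one_mem)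

/-- the lines of type 640 are exact -/
theorem dl640 (h : Fam t K D a) (C : Facts K D z q ρ v₁ q' ρ' y y' v₂ w s u₂ u₃ u₄) : dl a z q = 1 := by
  have zqD := C.zqD h
  have key := h.dl_cases (y := 1) C.zD C.qD zqD C.qz C.z1 C.q1 C.qnz C.ρK C.ρ1 C.ρ2 (one_mul _)
    (by rw [one_mul, mul_one]) (by rw [one_mul, mul_one]) (by group) fun k hk hc => by
      rcases C.cenq k hk hc with e | e | e | e
      · exact ⟨1, Or.inl rfl, Or.inl e⟩
      · exact ⟨z, Or.inr (Or.inl rfl), Or.inl e⟩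
      · exact ⟨q, Or.inr (Or.inr (Or.inl rfl)), Or.inl e⟩
      · exact ⟨z * q, Or.inr (Or.inr (Or.inr rfl)), Or.inl e⟩
  rw [mul_one] at key
  rcases key with e | e | e | e
  · exact e
  · exact e
  all_goals
    exfalso
    -- the defect of every line of type 640 is `t` times its second member
    have all : ∀ {p' r' : G}, PC K z q p' r' → dl a p' r' = t * r' := by
      rintro p' r' ⟨g, hg, rfl, rfl⟩
      rw [h.dl_conj C.zD C.qD zqD hg, e]
      calc g * (t * q) * g⁻¹ = g * t * q * g⁻¹ := by group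
        _ = t * (g * q * g⁻¹) := by rw [h.comm g hg]; group
    have hv₁D : v₁ ∈ D := h.D_PC' C.e2 C.qD
    have hqvD : q * v₁ ∈ D := h.D_PC' C.e3 C.qD
    have E := h.dl_assoc (u := z) (w := q) (v := v₁) C.zD zqD hqvD
    rw [e, all C.e1, all C.e2, all C.e3] at E
    have qv : q * v₁ = v₁ * q := Fam.comm_PC C.e2 C.qz
    have zqv : z * q * v₁ = v₁ * (z * q) := Fam.comm_PC C.e1 C.qz
    have zv : z * v₁ = v₁ * z := by
      have h1 : z * v₁ * q = v₁ * z * q := by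
        calc z * v₁ * q = z * (q * v₁) := by rw [qv]; group
          _ = z * q * v₁ := by group
          _ = v₁ * z * q := by rw [zqv]; group
      exact mul_right_cancel h1
    have qt : q * t = t * q := h.comm q (h.DK q C.qD)
    have v₁t : v₁ * t = t * v₁ := h.comm v₁ (h.DK _ hv₁D)
    have av : a z * v₁ = v₁ * a z := (h.fix z C.zD v₁ (h.DK _ hv₁D) zv.symm).symm
    have L : t * q * (t * v₁) = q * v₁ := by
      calc t * q * (t * v₁) = t * (q * t) * v₁ := by group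
        _ = t * t * q * v₁ := by rw [qt]; group
        _ = q * v₁ := by rw [h.tt, one_mul]
    have R : a z * (t * v₁) * a z * (t * (q * v₁)) = z * q := by
      calc a z * (t * v₁) * a z * (t * (q * v₁)) = a z * t * (v₁ * a z) * (t * (q * v₁)) := by group
        _ = (a z * t * a z) * (v₁ * t) * (q * v₁) := by rw [← av]; group
        _ = t * z * t * v₁ * (q * v₁) := by rw [h.swap z C.zD, v₁t]; group
        _ = t * (z * t) * v₁ * (v₁ * q) := by rw [qv]; group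
        _ = t * t * z * (v₁ * v₁) * q := by rw [h.comm z (h.DK z C.zD)]; group
        _ = z * q := by rw [h.tt, h.sq _ hv₁D]; group
    rw [L, R] at E
    apply C.v₁z
    have h1 : v₁ * q = z * q := by rw [← qv, E]
    exact mul_right_cancel h1

theorem dl_of_PC (h : Fam t K D a) (C : Facts K D z q ρ v₁ q' ρ' y y' v₂ w s u₂ u₃ u₄) {p r : G}
    (e : PC K z q p r) : dl a p r = 1 := by
  obtain ⟨g, hg, rfl, rfl⟩ := e
  rw [h.dl_conj C.zD C.qD (C.zqD h) hg, C.dl640 h]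
  group

/-- the lines of type 480 are exact -/
theorem dl480 (h : Fam t K D a) (C : Facts K D z q ρ v₁ q' ρ' y y' v₂ w s u₂ u₃ u₄) : dl a z q' = 1 := by
  have zqD' := C.zqD' h
  have hv₂D : v₂ ∈ D := h.D_PC' C.f2 C.qD
  obtain ⟨g, hg, g1, g2, g3⟩ := C.f3
  have hqvD : q' * v₂ ∈ D := by
    rw [← g2]
    exact h.conj q' C.qD' g hg
  -- the cocycle identity
  have E := h.dl_assoc (u := z) (w := q') (v := v₂) C.zD zqD' hqvD
  rw [C.dl_of_PC h C.f1, C.dl_of_PC h C.f2, mul_one, mul_one, h.aa z C.zD, one_mul] at E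
  have E' : dl a z q' = g * dl a z q' * g⁻¹ := by
    conv_lhs => rw [E]
    rw [← h.dl_conj C.zD C.qD' zqD' hg, g1, g2]
  have key := h.dl_cases C.zD C.qD' zqD' C.qz' C.z1 C.q1' C.qnz' C.ρK' C.ρ1' C.ρ2' C.yy C.yz C.yq' C.ρy C.cenq'
  have gt : g * t * g⁻¹ = t := by rw [h.comm g hg]; group
  have v₂1 : v₂ ≠ 1 := by
    intro e
    obtain ⟨l, hl, -, l2⟩ := C.f2
    apply C.q1
    calc q = l⁻¹ * (l * q * l⁻¹) * l := by group
      _ = 1 := by rw [l2, e]; group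
  rcases key with e | e | e | e
  · exact e
  · exfalso
    rw [e, g3] at E'
    exact C.yy' E'
  · exfalso
    rw [e] at E'
    have h1 : t * q' = t * (q' * v₂) := by
      calc t * q' = g * (t * q') * g⁻¹ := E'
        _ = g * t * g⁻¹ * (g * q' * g⁻¹) := by group
        _ = t * (q' * v₂) := by rw [gt, g2]
    have h2 : q' = q' * v₂ := mul_left_cancel h1
    exact v₂1 (mul_eq_left.1 h2.symm)
  · exfalso
    rw [e] at E'
    have h1 : t * (q' * y) = t * (q' * (v₂ * y')) := by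
      calc t * (q' * y) = g * (t * (q' * y)) * g⁻¹ := E'
        _ = g * t * g⁻¹ * (g * q' * g⁻¹) * (g * y * g⁻¹) := by group
        _ = t * (q' * (v₂ * y')) := by rw [gt, g2, g3]; group
    have h2 : y = v₂ * y' := mul_left_cancel (mul_left_cancel h1)
    apply C.v₂y
    have h3 : y' * y' = 1 := by
      rw [← g3]
      calc g * y * g⁻¹ * (g * y * g⁻¹) = g * (y * y) * g⁻¹ := by group
        _ = 1 := by rw [C.yy]; group
    calc v₂ = v₂ * (y' * y') := by rw [h3, mul_one]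
      _ = v₂ * y' * y' := by group
      _ = y * y' := by rw [← h2]

theorem line640 (h : Fam t K D a) (C : Facts K D z q ρ v₁ q' ρ' y y' v₂ w s u₂ u₃ u₄) {p r : G}
    (e : PC K z q p r) : p ∈ D ∧ r ∈ D ∧ p * r ∈ D ∧ p * r = r * p ∧ a (p * r) = a p * a r := by
  have h1 := h.D_PCm e (C.zqD h)
  refine ⟨h.D_PC e C.zD, h.D_PC' e C.qD, h1, Fam.comm_PC e C.qz, ?_⟩
  rw [h.dl_mul h1, C.dl_of_PC h e, one_mul]

theorem line480 (h : Fam t K D a) (C : Facts K D z q ρ v₁ q' ρ' y y' v₂ w s u₂ u₃ u₄) {p r : G}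
    (e : PC K z q' p r) : p ∈ D ∧ r ∈ D ∧ p * r ∈ D ∧ p * r = r * p ∧ a (p * r) = a p * a r := by
  have h1 := h.D_PCm e (C.zqD' h)
  refine ⟨h.D_PC e C.zD, h.D_PC' e C.qD', h1, Fam.comm_PC e C.qz', ?_⟩
  have h2 : dl a p r = 1 := by
    obtain ⟨g, hg, rfl, rfl⟩ := e
    rw [h.dl_conj C.zD C.qD' (C.zqD' h) hg, C.dl480 h]
    group
  rw [h.dl_mul h1, h2, one_mul]

/-- `(z, w)` is good -/
theorem good_zw (h : Fam t K D a) (C : Facts K D z q ρ v₁ q' ρ' y y' v₂ w s u₂ u₃ u₄) : Good a z w := by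
  obtain ⟨-, xD, mz, hzx, lz⟩ := C.line640 h C.lz
  obtain ⟨-, -, mw, hwx, lw⟩ := C.line640 h C.lw
  have x1 : z * w * (z * w) ≠ 1 := by
    intro e
    obtain ⟨g, -, -, g2⟩ := C.lz
    apply C.q1
    calc q = g⁻¹ * (g * q * g⁻¹) * g := by group
      _ = 1 := by rw [g2, e]; group
  obtain ⟨FK, FF, Fz, Fw, Fc⟩ := h.F_mem C.zD C.wD xD rfl x1 hzx hwx lz lw mz mw
  rw [h.good_iff C.zD C.wD]
  rcases C.cenw _ FK FF Fz Fw Fc with e | e
  · exact e
  · exfalso
    -- the pair `(z, s)`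
    obtain ⟨g, hg, g1, g2⟩ := C.ps
    have sD : s ∈ D := by rw [← g2]; exact h.conj w C.wD g hg
    have Fs : F a z s = z * s * (z * s) := by
      calc F a z s = F a (g * z * g⁻¹) (g * w * g⁻¹) := by rw [g1, g2]
        _ = g * (z * w * (z * w)) * g⁻¹ := by rw [h.F_conj C.zD C.wD hg, e]
        _ = g * z * g⁻¹ * (g * w * g⁻¹) * (g * z * g⁻¹ * (g * w * g⁻¹)) := by group
        _ = z * s * (z * s) := by rw [g1, g2]
    have FsK : F a z s ∈ K := by
      rw [Fs]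
      have h1 := mul_mem (h.DK z C.zD) (h.DK s sD)
      exact mul_mem h1 h1
    -- the pair `(z, w s)`
    obtain ⟨-, -, wsD, hws, lws⟩ := C.line640 h C.ws
    obtain ⟨-, XD, mz', hzX, lz'⟩ := C.line480 h C.nz
    obtain ⟨-, -, mw', hwX, lw'⟩ := C.line480 h C.nw
    have X1 : z * (w * s) * (z * (w * s)) ≠ 1 := by
      intro e'
      obtain ⟨g', -, -, g2'⟩ := C.nz
      apply C.q1'
      calc q' = g'⁻¹ * (g' * q' * g'⁻¹) * g' := by group
        _ = 1 := by rw [g2', e']; group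
    have FwsK := (h.F_mem C.zD wsD XD rfl X1 hzX hwX lz' lw' mz' mw').1
    have key := h.norm_comm C.zD C.wD sD wsD hws lws FK FsK FwsK
    rw [Fs] at key
    exact C.kill key

theorem good_of_PC (h : Fam t K D a) (C : Facts K D z q ρ v₁ q' ρ' y y' v₂ w s u₂ u₃ u₄) {p r : G}
    (e : PC K z w p r) : p ∈ D ∧ r ∈ D ∧ Good a p r ∧ Good a r p := by
  have h1 := h.D_PC e C.zD
  have h2 := h.D_PC' e C.wD
  have h3 : Good a p r := by
    obtain ⟨g, hg, rfl, rfl⟩ := e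
    exact h.good_conj C.zD C.wD hg (C.good_zw h)
  exact ⟨h1, h2, h3, h.good_symm h1 h2 h3⟩

/-- **the end for `K = Ru`** -/
theorem exists_hom [Finite G] (h : Fam t K D a) (C : Facts K D z q ρ v₁ q' ρ' y y' v₂ w s u₂ u₃ u₄) :
    ∃ m : G →* ℤˣ, m t = -1 := by
  obtain ⟨-, u₂D, g12, g21⟩ := C.good_of_PC h C.c12
  obtain ⟨-, u₃D, g13, g31⟩ := C.good_of_PC h C.c13
  obtain ⟨-, u₄D, g14, g41⟩ := C.good_of_PC h C.c14
  obtain ⟨-, -, g23, g32⟩ := C.good_of_PC h C.c23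
  obtain ⟨-, -, g24, g42⟩ := C.good_of_PC h C.c24
  obtain ⟨-, -, g34, g43⟩ := C.good_of_PC h C.c34
  have g11 := h.good_self C.zD
  have g22 := h.good_self u₂D
  have g33 := h.good_self u₃D
  have g44 := h.good_self u₄D
  refine h.exists_hom_of_clique (D₀ := {z, u₂, u₃, u₄}) ?_ ?_ C.gen C.cen ?_
  · rintro v (rfl | rfl | rfl | rfl)
    · exact C.zD
    · exact u₂D
    · exact u₃D
    · exact u₄D
  · rintro v (rfl | rfl | rfl | rfl) r (rfl | rfl | rfl | rfl) <;> assumption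
  · refine ⟨z, h.DK z C.zD, w, h.DK w C.wD, ?_⟩
    intro e
    obtain ⟨g, -, -, g2⟩ := C.lz
    apply C.q1
    have ww := h.sq w C.wD
    calc q = g⁻¹ * (g * q * g⁻¹) * g := by group
      _ = g⁻¹ * (z * w * (z * w)) * g := by rw [g2]
      _ = g⁻¹ * (z * (w * z) * w) * g := by group
      _ = g⁻¹ * (z * z * (w * w)) * g := by rw [← e]; group
      _ = 1 := by rw [h.sq z C.zD, ww]; group

/-- transport along an injective homomorphism -/
theorem map {X : Type*} [Group X] {D : Set X} {z q ρ v₁ q' ρ' y y' v₂ w s u₂ u₃ u₄ : X}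
    (C : Facts (⊤ : Subgroup X) D z q ρ v₁ q' ρ' y y' v₂ w s u₂ u₃ u₄) (f : X →* G)
    (hf : Function.Injective f) :
    Facts f.range (f '' D) (f z) (f q) (f ρ) (f v₁) (f q') (f ρ') (f y) (f y') (f v₂) (f w) (f s) (f u₂)
      (f u₃) (f u₄) := by
  have mp : ∀ {p r p' r' : X}, PC ⊤ p r p' r' → PC f.range (f p) (f r) (f p') (f r') := by
    rintro p r p' r' ⟨g, -, rfl, rfl⟩
    exact ⟨f g, ⟨g, rfl⟩, by simp, by simp⟩
  have mt : ∀ {p r x p' r' x' : X}, TC ⊤ p r x p' r' x' → TC f.range (f p) (f r) (f x) (f p') (f r') (f x') := by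
    rintro p r x p' r' x' ⟨g, -, rfl, rfl, rfl⟩
    exact ⟨f g, ⟨g, rfl⟩, by simp, by simp, by simp⟩
  have mc : ∀ {p r k : X}, (∀ c ∈ f.range, c * f p = f p * c → c * f r = f r * c → c * f k = f k * c) →
      ∀ c ∈ (⊤ : Subgroup X), c * p = p * c → c * r = r * c → c * k = k * c := by
    intro p r k hk c _ c1 c2
    apply hf
    rw [map_mul, map_mul]
    exact hk (f c) ⟨c, rfl⟩ (by rw [← map_mul, c1, map_mul]) (by rw [← map_mul, c2, map_mul])
  refine ⟨⟨z, C.zD, rfl⟩, ⟨q, C.qD, rfl⟩, ⟨q', C.qD', rfl⟩, ⟨w, C.wD, rfl⟩, ?_, ?_, ?_, ⟨ρ, rfl⟩, ?_, ?_, ?_, ?_,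
    mp C.e2, ?_, ?_, ?_, ?_, ⟨ρ', rfl⟩, ?_, ?_, ?_, ?_, ?_, ?_, ?_, ?_, mp C.f2, ?_, ?_, ?_, ?_, ?_, ?_, mp C.ps,
    mp C.ws, ?_, ?_, ?_, mp C.c12, mp C.c13, mp C.c14, mp C.c23, mp C.c24, mp C.c34, ?_, ?_⟩
  · exact fun e => C.z1 (hf (by rw [e, map_one]))
  · rw [← map_mul, C.qz, map_mul]
  · exact fun e => C.qnz (hf e)
  · rw [← map_mul, ← map_inv, ← map_mul, C.ρ1]
  · rw [← map_mul, ← map_inv, ← map_mul, C.ρ2, map_mul]
  · rintro _ ⟨k, rfl⟩ hk
    rcases C.cenq k (mem_top k) (mc hk) with rfl | rfl | rfl | rfl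
    · exact Or.inl (map_one f)
    · exact Or.inr (Or.inl rfl)
    · exact Or.inr (Or.inr (Or.inl rfl))
    · exact Or.inr (Or.inr (Or.inr (map_mul f _ _)))
  · rw [← map_mul]; exact mp C.e1
  · rw [← map_mul]; exact mp C.e3
  · exact fun e => C.v₁z (hf e)
  · rw [← map_mul, C.qz', map_mul]
  · exact fun e => C.qnz' (hf e)
  · rw [← map_mul, ← map_inv, ← map_mul, C.ρ1']
  · rw [← map_mul, ← map_inv, ← map_mul, C.ρ2', map_mul]
  · rw [← map_mul, C.yy, map_one]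
  · rw [← map_mul, C.yz, map_mul]
  · rw [← map_mul, C.yq', map_mul]
  · rw [← map_mul, ← map_inv, ← map_mul, C.ρy]
  · rintro _ ⟨k, rfl⟩ hk
    obtain ⟨m, hm, hk⟩ := C.cenq' k (mem_top k) (mc hk)
    refine ⟨f m, ?_, ?_⟩
    · rcases hm with rfl | rfl | rfl | rfl
      · exact Or.inl (map_one f)
      · exact Or.inr (Or.inl rfl)
      · exact Or.inr (Or.inr (Or.inl rfl))
      · exact Or.inr (Or.inr (Or.inr (map_mul f _ _)))
    · rcases hk with rfl | rfl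
      · exact Or.inl rfl
      · exact Or.inr (map_mul f _ _)
  · rw [← map_mul]; exact mp C.f1
  · rw [← map_mul]; exact mt C.f3
  · exact fun e => C.yy' (hf e)
  · intro e
    rw [← map_mul] at e
    exact C.v₂y (hf e)
  · rw [← map_mul, ← map_mul]; exact mp C.lz
  · rw [← map_mul, ← map_mul]; exact mp C.lw
  · rintro _ ⟨k, rfl⟩ h1 h2 h3 hk
    rw [← map_mul, ← map_one f] at h1
    rw [← map_mul, ← map_mul] at h2 h3
    rcases C.cenw k (mem_top k) (hf h1) (hf h2) (hf h3) (mc hk) with rfl | rfl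
    · exact Or.inl (map_one f)
    · right
      rw [map_mul, map_mul]
  · rw [← map_mul, ← map_mul, ← map_mul]; exact mp C.nz
  · rw [← map_mul, ← map_mul, ← map_mul]; exact mp C.nw
  · intro e
    apply C.kill
    apply hf
    simpa only [map_mul] using e
  · have h1 := congrArg (Subgroup.map f) C.gen
    rw [MonoidHom.map_closure, ← MonoidHom.range_eq_map] at h1
    rw [← h1]
    congr 1
    simp only [Set.image_insert_eq, Set.image_singleton]
  · rintro _ ⟨k, rfl⟩ hk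
    rw [← map_one f]
    congr 1
    refine C.cen k (mem_top k) fun c _ => hf ?_
    rw [map_mul, map_mul]
    exact hk (f c) ⟨c, rfl⟩

end Facts

end Cfsg.Agent.OddHalf.D8.Phi.RuEnd
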