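import Mathlib
import Cfsg.Agent.OddHalf.D8.Wreath

/-!
# ODD half, D8: equivariant families and the generating clique (helper879)

`t` an involution, `C_G(t) = ⟨t⟩ K`, `D ⊆ K` a `K`-invariant set of involutions. A *family* is a `K`-equivariant map
`a : D → G` with `a_v² = 1`, `tᵃᵛ = t v` and `[a_v, C_K(v)] = 1`; `b_v = a_vᵗ = a_v v`. `Good v w` : `[a_v, b_w] = 1`.

* `mem_comm` (TRICK): `k ∈ K`, `a_w k a_w ∈ K` imply `k w = w k`;
* `F_mem` (N0): if `v w` has order 4, `x = (v w)²` and the lines `(v, x)`, `(w, x)` are exact, then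
  `F v w = [a_v, b_w]` is an element of `K` of square 1 commuting with `v`, `w` and with `C_K(v, w)`;
* `norm_comm` (N1): `F v w₂` commutes with `w₁` if `F v w₁`, `F v w₂`, `F v (w₁ w₂)` are in `K` and `(w₁, w₂)` is exact;
* `Good.mul`, `Good.conj` (R1, R2);
* `exists_hom_of_clique`: if `D₀ ⊆ D` is pairwise good and generates `K`, then `G` has a homomorphism onto `{1, -1}` with
  `t ↦ -1`.
-/

set_option autoImplicit false

namespace Cfsg.Agent.OddHalf.D8.Phi

open Subgroup

variable {G : Type*} [Group G]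

/-- an equivariant family -/
structure Fam (t : G) (K : Subgroup G) (D : Set G) (a : G → G) : Prop where
  tt : t * t = 1
  tK : t ∉ K
  comm : ∀ k ∈ K, k * t = t * k
  cen : ∀ g : G, g * t = t * g → g ∈ K ∨ t * g ∈ K
  DK : ∀ v ∈ D, v ∈ K
  sq : ∀ v ∈ D, v * v = 1
  conj : ∀ v ∈ D, ∀ k ∈ K, k * v * k⁻¹ ∈ D
  aa : ∀ v ∈ D, a v * a v = 1
  swap : ∀ v ∈ D, a v * t * a v = t * v
  fix : ∀ v ∈ D, ∀ k ∈ K, k * v = v * k → k * a v = a v * k
  eqv : ∀ v ∈ D, ∀ k ∈ K, a (k * v * k⁻¹) = k * a v * k⁻¹

/-- `b_v = a_v v` -/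
def b (a : G → G) (v : G) : G := a v * v

/-- `[a_v, b_w]` -/
def F (a : G → G) (v w : G) : G := a v * b a w * (a v * b a w)

/-- `[a_v, b_w] = 1` -/
def Good (a : G → G) (v w : G) : Prop := a v * b a w = b a w * a v

namespace Fam

variable {t : G} {K : Subgroup G} {D : Set G} {a : G → G}

theorem av (h : Fam t K D a) {v : G} (hv : v ∈ D) : v * a v = a v * v :=
  h.fix v hv v (h.DK v hv) rfl

theorem bb (h : Fam t K D a) {v : G} (hv : v ∈ D) : b a v * b a v = 1 := by
  unfold b
  calc a v * v * (a v * v) = a v * (v * a v) * v := by group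
    _ = a v * a v * (v * v) := by rw [h.av hv]; group
    _ = 1 := by rw [h.aa v hv, h.sq v hv, one_mul]

/-- `b_v = t a_v t` -/
theorem conj_t (h : Fam t K D a) {v : G} (hv : v ∈ D) : t * a v * t = b a v := by
  unfold b
  calc t * a v * t = a v * a v * t * a v * t := by rw [h.aa v hv, one_mul]
    _ = a v * (a v * t * a v) * t := by group
    _ = a v * (t * v) * t := by rw [h.swap v hv]
    _ = a v * (v * t) * t := by rw [h.comm v (h.DK v hv)]
    _ = a v * v * (t * t) := by group
    _ = a v * v := by rw [h.tt, mul_one]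

theorem conj_t' (h : Fam t K D a) {v : G} (hv : v ∈ D) : t * b a v * t = a v := by
  rw [← h.conj_t hv]
  calc t * (t * a v * t) * t = t * t * a v * (t * t) := by group
    _ = a v := by rw [h.tt, one_mul, mul_one]

theorem mul_b (h : Fam t K D a) {v : G} (hv : v ∈ D) : a v * b a v = v := by
  unfold b
  rw [← mul_assoc, h.aa v hv, one_mul]

theorem b_mul (h : Fam t K D a) {v : G} (hv : v ∈ D) : b a v * a v = v := by
  unfold b
  rw [mul_assoc, h.av hv, ← mul_assoc, h.aa v hv, one_mul]

/-- `b` is a family, too -/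
theorem dual (h : Fam t K D a) : Fam t K D (b a) where
  tt := h.tt
  tK := h.tK
  comm := h.comm
  cen := h.cen
  DK := h.DK
  sq := h.sq
  conj := h.conj
  aa := fun _ hv => h.bb hv
  swap := by
    intro v hv
    unfold b
    calc a v * v * t * (a v * v) = a v * (v * t) * (a v * v) := by group
      _ = a v * (t * v) * (v * a v) := by rw [h.comm v (h.DK v hv), h.av hv]
      _ = a v * t * (v * v) * a v := by group
      _ = a v * t * a v := by rw [h.sq v hv, mul_one]
      _ = t * v := h.swap v hv
  fix := by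
    intro v hv k hk e
    unfold b
    calc k * (a v * v) = k * a v * v := by group
      _ = a v * (k * v) := by rw [h.fix v hv k hk e]; group
      _ = a v * v * k := by rw [e]; group
  eqv := by
    intro v hv k hk
    unfold b
    rw [h.eqv v hv k hk]
    group

theorem b_b (h : Fam t K D a) {v : G} (hv : v ∈ D) : b (b a) v = a v := by
  unfold b
  rw [mul_assoc, h.sq v hv, mul_one]

/-- **TRICK**: an element of `K` stays in `K` under `a_w` only if it commutes with `w` -/
theorem mem_comm (h : Fam t K D a) {w k : G} (hw : w ∈ D) (hk : k ∈ K) (h1 : a w * k * a w ∈ K) :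
    k * w = w * k := by
  have h2 := h.comm _ h1
  have h3 : k * (t * w) = t * w * k := by
    rw [← h.swap w hw]
    calc k * (a w * t * a w) = a w * a w * k * (a w * t * a w) := by rw [h.aa w hw, one_mul]
      _ = a w * (a w * k * a w * t) * a w := by group
      _ = a w * (t * (a w * k * a w)) * a w := by rw [h2]
      _ = a w * t * a w * k * (a w * a w) := by group
      _ = a w * t * a w * k := by rw [h.aa w hw, mul_one]
  have h4 : t * (k * w) = t * (w * k) := by
    calc t * (k * w) = t * k * w := by group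
      _ = k * t * w := by rw [h.comm k hk]
      _ = k * (t * w) := by group
      _ = t * w * k := h3
      _ = t * (w * k) := by group
  exact mul_left_cancel h4

theorem mem_comm' (h : Fam t K D a) {w k : G} (hw : w ∈ D) (hk : k ∈ K) (h1 : b a w * k * b a w ∈ K) :
    k * w = w * k := h.dual.mem_comm hw hk h1

/-- an element of `K` commutes with `a_w` if and only if it commutes with `w` -/
theorem comm_iff (h : Fam t K D a) {w k : G} (hw : w ∈ D) (hk : k ∈ K) :
    k * a w = a w * k ↔ k * w = w * k := by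
  refine ⟨fun e => h.mem_comm hw hk ?_, h.fix w hw k hk⟩
  rw [← e, mul_assoc, h.aa w hw, mul_one]
  exact hk

theorem not_comm_t (h : Fam t K D a) {v : G} (hv : v ∈ D) (hv1 : v ≠ 1) : a v * t ≠ t * a v := by
  intro e
  have h1 := h.swap v hv
  rw [e, mul_assoc, h.aa v hv, mul_one] at h1
  apply hv1
  exact mul_left_cancel (a := t) (by rw [← h1, mul_one])

/-- the elements `c` with `c² = 1`, `tᶜ = t v`, `[c, C_K(v)] = 1` are `a_v` and `b_v`, if `Z(C_K(v)) = ⟨v⟩` -/
theorem eq_or (h : Fam t K D a) {v c : G} (hv : v ∈ D) (hv1 : v ≠ 1) (hc : c * c = 1)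
    (hct : c * t * c = t * v) (hcf : ∀ k ∈ K, k * v = v * k → k * c = c * k)
    (hZ : ∀ z ∈ K, z * v = v * z → (∀ k ∈ K, k * v = v * k → z * k = k * z) → z = 1 ∨ z = v) :
    c = a v ∨ c = b a v := by
  have e1 : c * a v * t = t * (c * a v) := by
    have h1 : a v * t = t * v * a v := by rw [← h.swap v hv, mul_assoc, h.aa v hv, mul_one]
    have h2 : c * t = t * v * c := by rw [← hct, mul_assoc, hc, mul_one]
    have h3 : v * c = c * v := hcf v (h.DK v hv) rfl
    calc c * a v * t = c * (a v * t) := by group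
      _ = c * t * (v * a v) := by rw [h1]; group
      _ = t * (v * c * v) * a v := by rw [h2]; group
      _ = t * c * (v * v) * a v := by rw [h3]; group
      _ = t * (c * a v) := by rw [h.sq v hv]; group
  have e2 : ∀ k ∈ K, k * v = v * k → c * a v * k = k * (c * a v) := by
    intro k hk hkv
    calc c * a v * k = c * (a v * k) := by group
      _ = c * k * a v := by rw [← h.fix v hv k hk hkv]; group
      _ = k * (c * a v) := by rw [← hcf k hk hkv]; group
  have e3 : a v * (c * a v) * a v = (c * a v)⁻¹ := by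
    rw [mul_inv_rev, inv_eq_of_mul_eq_one_right hc, inv_eq_of_mul_eq_one_right (h.aa v hv)]
    calc a v * (c * a v) * a v = a v * c * (a v * a v) := by group
      _ = a v * c := by rw [h.aa v hv, mul_one]
  have key : ∀ z : G, z = 1 ∨ z = v → c * a v = z → c = a v ∨ c = b a v := by
    intro z hz e
    have h1 : c = z * a v := by rw [← e, mul_assoc, h.aa v hv, mul_one]
    rcases hz with rfl | rfl
    · exact Or.inl (by rw [h1, one_mul])
    · refine Or.inr ?_
      unfold b
      rw [h1, h.av hv]
  rcases h.cen _ e1 with h1 | h1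
  · exact key _ (hZ _ h1 (e2 v (h.DK v hv) rfl) fun k hk hkv => e2 k hk hkv) rfl
  · exfalso
    have h2 : t * (c * a v) * v = v * (t * (c * a v)) := by
      calc t * (c * a v) * v = t * (c * a v * v) := by group
        _ = t * v * (c * a v) := by rw [e2 v (h.DK v hv) rfl]; group
        _ = v * (t * (c * a v)) := by rw [← h.comm v (h.DK v hv)]; group
    have h3 : t * (c * a v) = 1 ∨ t * (c * a v) = v := by
      refine hZ _ h1 h2 fun k hk hkv => ?_
      calc t * (c * a v) * k = t * (c * a v * k) := by group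
        _ = t * k * (c * a v) := by rw [e2 k hk hkv]; group
        _ = k * (t * (c * a v)) := by rw [← h.comm k hk]; group
    -- `c a_v = t` or `t v`: then `c` inverts it and `a_v` does
    have h4 : c * a v = t ∨ c * a v = t * v := by
      rcases h3 with e | e
      · left
        calc c * a v = t * t * (c * a v) := by rw [h.tt, one_mul]
          _ = t * (t * (c * a v)) := by group
          _ = t := by rw [e, mul_one]
      · right
        calc c * a v = t * t * (c * a v) := by rw [h.tt, one_mul]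
          _ = t * (t * (c * a v)) := by group
          _ = t * v := by rw [e]
    have h5 : (c * a v) * (c * a v) = 1 := by
      rcases h4 with e | e
      · rw [e, h.tt]
      · rw [e]
        calc t * v * (t * v) = t * (v * t) * v := by group
          _ = t * t * (v * v) := by rw [h.comm v (h.DK v hv)]; group
          _ = 1 := by rw [h.tt, h.sq v hv, one_mul]
    have h6 : a v * (c * a v) = c * a v * a v := by
      have h7 : (c * a v)⁻¹ = c * a v := inv_eq_of_mul_eq_one_right h5
      rw [h7] at e3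
      calc a v * (c * a v) = a v * (c * a v) * (a v * a v) := by rw [h.aa v hv, mul_one]
        _ = a v * (c * a v) * a v * a v := by group
        _ = c * a v * a v := by rw [e3]
    rcases h4 with e | e
    · rw [e] at h6
      exact h.not_comm_t hv hv1 h6
    · rw [e] at h6
      apply h.not_comm_t hv hv1
      have h8 : a v * t * v = t * a v * v := by
        calc a v * t * v = a v * (t * v) := by group
          _ = t * (v * a v) := by rw [h6]; group
          _ = t * a v * v := by rw [h.av hv]; group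
      exact mul_right_cancel h8

/-! ### commuting pairs -/

/-- a line: `a_{vw} = a_v a_w` -/
theorem line_comm (h : Fam t K D a) {v w : G} (hv : v ∈ D) (hw : w ∈ D) (hvw : v * w ∈ D)
    (e : a (v * w) = a v * a w) : a v * a w = a w * a v := by
  have h1 := h.aa _ hvw
  rw [e] at h1
  have h2 := mul_eq_one_iff_eq_inv.1 h1
  rw [mul_inv_rev, inv_eq_of_mul_eq_one_right (h.aa v hv), inv_eq_of_mul_eq_one_right (h.aa w hw)] at h2
  exact h2

theorem b_line (h : Fam t K D a) {v w : G} (hv : v ∈ D) (hw : w ∈ D) (hc : v * w = w * v)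
    (e : a (v * w) = a v * a w) : b a (v * w) = b a v * b a w := by
  unfold b
  rw [e]
  calc a v * a w * (v * w) = a v * (a w * v) * w := by group
    _ = a v * (v * a w) * w := by rw [h.fix w hw v (h.DK v hv) hc]
    _ = a v * v * (a w * w) := by group

theorem good_of_comm (h : Fam t K D a) {v w : G} (hv : v ∈ D) (hw : w ∈ D) (hc : v * w = w * v)
    (e : a v * a w = a w * a v) : Good a v w := by
  unfold Good b
  calc a v * (a w * w) = a v * a w * w := by group
    _ = a w * (a v * w) := by rw [e]; group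
    _ = a w * (w * a v) := by rw [h.fix v hv w (h.DK w hw) hc.symm]
    _ = a w * w * a v := by group

theorem good_of_line (h : Fam t K D a) {v w : G} (hv : v ∈ D) (hw : w ∈ D) (hvw : v * w ∈ D)
    (hc : v * w = w * v) (e : a (v * w) = a v * a w) : Good a v w :=
  h.good_of_comm hv hw hc (h.line_comm hv hw hvw e)

theorem good_self (h : Fam t K D a) {v : G} (hv : v ∈ D) : Good a v v := by
  unfold Good
  rw [h.mul_b hv, h.b_mul hv]

theorem good_symm (h : Fam t K D a) {v w : G} (hv : v ∈ D) (hw : w ∈ D) (e : Good a v w) :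
    Good a w v := by
  unfold Good at e ⊢
  calc a w * b a v = t * b a w * t * (t * a v * t) := by rw [h.conj_t hv, h.conj_t' hw]
    _ = t * b a w * (t * t) * a v * t := by group
    _ = t * (b a w * a v) * t := by rw [h.tt]; group
    _ = t * (a v * b a w) * t := by rw [e]
    _ = t * a v * 1 * b a w * t := by group
    _ = t * a v * (t * t) * b a w * t := by rw [h.tt]
    _ = t * a v * t * (t * b a w * t) := by group
    _ = b a v * a w := by rw [h.conj_t hv, h.conj_t' hw]

theorem good_iff (h : Fam t K D a) {v w : G} (hv : v ∈ D) (hw : w ∈ D) :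
    Good a v w ↔ F a v w = 1 := by
  unfold Good F
  rw [mul_eq_one_iff_eq_inv, mul_inv_rev, inv_eq_of_mul_eq_one_right (h.aa v hv),
    inv_eq_of_mul_eq_one_right (h.bb hw)]

theorem F_mem_of_good (h : Fam t K D a) {v w : G} (hv : v ∈ D) (hw : w ∈ D) (e : Good a v w) :
    F a v w ∈ K := by
  rw [(h.good_iff hv hw).1 e]
  exact one_mem _

theorem good_conj (h : Fam t K D a) {v w k : G} (hv : v ∈ D) (hw : w ∈ D) (hk : k ∈ K)
    (e : Good a v w) : Good a (k * v * k⁻¹) (k * w * k⁻¹) := by
  unfold Good at e ⊢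
  rw [h.eqv v hv k hk, h.dual.eqv w hw k hk]
  calc k * a v * k⁻¹ * (k * b a w * k⁻¹) = k * (a v * b a w) * k⁻¹ := by group
    _ = k * b a w * k⁻¹ * (k * a v * k⁻¹) := by rw [e]; group

/-- **R1** -/
theorem good_mul (h : Fam t K D a) {v w₁ w₂ : G} (h1 : w₁ ∈ D) (h2 : w₂ ∈ D)
    (hc : w₁ * w₂ = w₂ * w₁) (e : a (w₁ * w₂) = a w₁ * a w₂) (g1 : Good a v w₁) (g2 : Good a v w₂) :
    Good a v (w₁ * w₂) := by
  unfold Good at g1 g2 ⊢
  rw [h.b_line h1 h2 hc e]
  calc a v * (b a w₁ * b a w₂) = a v * b a w₁ * b a w₂ := by group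
    _ = b a w₁ * (a v * b a w₂) := by rw [g1]; group
    _ = b a w₁ * b a w₂ * a v := by rw [g2]; group

/-- **R2** -/
theorem good_conj' (h : Fam t K D a) {v w₁ w₂ : G} (h1 : w₁ ∈ D) (h2 : w₂ ∈ D)
    (g1 : Good a v w₁) (g2 : Good a v w₂) (g : Good a w₁ w₂) : Good a v (w₁ * w₂ * w₁⁻¹) := by
  unfold Good at g1 g2 g ⊢
  have h3 : b a (w₁ * w₂ * w₁⁻¹) = b a w₁ * b a w₂ * b a w₁ := by
    rw [h.dual.eqv w₂ h2 w₁ (h.DK _ h1), inv_eq_of_mul_eq_one_right (h.sq _ h1)]
    calc w₁ * b a w₂ * w₁ = b a w₁ * a w₁ * b a w₂ * (a w₁ * b a w₁) := by rw [h.mul_b h1, h.b_mul h1]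
      _ = b a w₁ * (a w₁ * b a w₂) * a w₁ * b a w₁ := by group
      _ = b a w₁ * b a w₂ * (a w₁ * a w₁) * b a w₁ := by rw [g]; group
      _ = b a w₁ * b a w₂ * b a w₁ := by rw [h.aa _ h1, mul_one]
  rw [h3]
  calc a v * (b a w₁ * b a w₂ * b a w₁) = a v * b a w₁ * b a w₂ * b a w₁ := by group
    _ = b a w₁ * (a v * b a w₂) * b a w₁ := by rw [g1]; group
    _ = b a w₁ * b a w₂ * (a v * b a w₁) := by rw [g2]; group
    _ = b a w₁ * b a w₂ * b a w₁ * a v := by rw [g1]; group

/-- a commuting pair `v, w` with `[a_v, a_w] = 1` is a line, if some `ρ ∈ K` cycles `v → w → v w → v` and only `1`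
commutes with `ρ`, `v`, `w` and `C_K(v, w)` among the involutions of `K` commuting with all these -/
theorem line_of_comm (h : Fam t K D a) {v w ρ : G} (hv : v ∈ D) (hw : w ∈ D) (hvw : v * w ∈ D)
    (hv1 : v ≠ 1) (hc : v * w = w * v) (e : a v * a w = a w * a v) (hρ : ρ ∈ K)
    (r1 : ρ * v * ρ⁻¹ = w) (r2 : ρ * w * ρ⁻¹ = v * w)
    (hK : ∀ k ∈ K, k * k = 1 → k * v = v * k → k * w = w * k → ρ * k = k * ρ →
      (∀ c ∈ K, c * v = v * c → c * w = w * c → c * k = k * c) → k = 1) :
    a (v * w) = a v * a w := by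
  have wK := h.DK w hw
  have vK := h.DK v hv
  have av := h.aa v hv
  have aw := h.aa w hw
  have au := h.aa _ hvw
  -- `a_{vw}` commutes with `a_v` and `a_w`, by `ρ`
  have q1 : ρ * a v * ρ⁻¹ = a w := by rw [← h.eqv v hv ρ hρ, r1]
  have q2 : ρ * a w * ρ⁻¹ = a (v * w) := by rw [← h.eqv w hw ρ hρ, r2]
  have r3 : ρ * (v * w) * ρ⁻¹ = v := by
    calc ρ * (v * w) * ρ⁻¹ = ρ * v * ρ⁻¹ * (ρ * w * ρ⁻¹) := by group
      _ = w * v * w := by rw [r1, r2]; group
      _ = v * (w * w) := by rw [← hc]; group
      _ = v := by rw [h.sq w hw, mul_one]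
  have q3 : ρ * a (v * w) * ρ⁻¹ = a v := by rw [← h.eqv _ hvw ρ hρ, r3]
  have cjc : ∀ p q : G, p * q = q * p → ρ * p * ρ⁻¹ * (ρ * q * ρ⁻¹) = ρ * q * ρ⁻¹ * (ρ * p * ρ⁻¹) := by
    intro p q hpq
    calc ρ * p * ρ⁻¹ * (ρ * q * ρ⁻¹) = ρ * (p * q) * ρ⁻¹ := by group
      _ = ρ * q * ρ⁻¹ * (ρ * p * ρ⁻¹) := by rw [hpq]; group
  have e2 : a w * a (v * w) = a (v * w) * a w := by
    have h1 := cjc _ _ e
    rw [q1, q2] at h1
    exact h1
  have e3 : a (v * w) * a v = a v * a (v * w) := by
    have h1 := cjc _ _ e2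
    rw [q2, q3] at h1
    exact h1
  set f := a v * a w * a (v * w) with hf
  have f2 : f * f = 1 := by
    rw [hf]
    calc a v * a w * a (v * w) * (a v * a w * a (v * w))
        = a v * a w * (a (v * w) * a v) * a w * a (v * w) := by group
      _ = a v * (a w * a v) * (a (v * w) * a w) * a (v * w) := by rw [e3]; group
      _ = a v * a v * (a w * a w) * (a (v * w) * a (v * w)) := by rw [← e, ← e2]; group
      _ = 1 := by rw [av, aw, au, one_mul, one_mul]
  have tv : a v * t = t * v * a v := by rw [← h.swap v hv, mul_assoc, av, mul_one]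
  have tw : a w * t = t * w * a w := by rw [← h.swap w hw, mul_assoc, aw, mul_one]
  have tu : a (v * w) * t = t * (v * w) * a (v * w) := by rw [← h.swap _ hvw, mul_assoc, au, mul_one]
  have wav : w * a v = a v * w := h.fix v hv w wK hc.symm
  have vaw : v * a w = a w * v := h.fix w hw v vK hc
  have vau : v * a (v * w) = a (v * w) * v := h.fix _ hvw v vK (by rw [hc, ← mul_assoc, hc, mul_assoc])
  have wau : w * a (v * w) = a (v * w) * w := h.fix _ hvw w wK (by rw [← mul_assoc, ← hc])
  have vv := h.sq v hv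
  have ww := h.sq w hw
  have tf : f * t = t * f := by
    calc f * t = a v * a w * (a (v * w) * t) := by rw [hf]; group
      _ = a v * (a w * t) * (v * w) * a (v * w) := by rw [tu]; group
      _ = a v * t * w * (a w * v) * w * a (v * w) := by rw [tw]; group
      _ = a v * t * w * v * (a w * w) * a (v * w) := by rw [← vaw]; group
      _ = a v * t * w * v * (w * a w) * a (v * w) := by rw [h.av hw]
      _ = a v * t * w * (v * w) * a w * a (v * w) := by group
      _ = a v * t * (w * w) * v * a w * a (v * w) := by rw [hc]; group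
      _ = a v * t * v * a w * a (v * w) := by rw [ww, mul_one]
      _ = t * v * (a v * v) * a w * a (v * w) := by rw [tv]; group
      _ = t * (v * v) * a v * a w * a (v * w) := by rw [← h.av hv]; group
      _ = t * f := by rw [vv, hf]; group
  have cf : ∀ c ∈ K, c * v = v * c → c * w = w * c → c * f = f * c := by
    intro c hc cv cw
    have h1 := h.fix v hv c hc cv
    have h2 := h.fix w hw c hc cw
    have h3 := h.fix _ hvw c hc (by rw [← mul_assoc, cv, mul_assoc, cw, mul_assoc])
    calc c * f = c * a v * a w * a (v * w) := by rw [hf]; group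
      _ = a v * (c * a w) * a (v * w) := by rw [h1]; group
      _ = a v * a w * (c * a (v * w)) := by rw [h2]; group
      _ = f * c := by rw [h3, hf]; group
  have avf : a v * f = f * a v := by
    rw [hf]
    calc a v * (a v * a w * a (v * w)) = a v * (a v * a w) * a (v * w) := by group
      _ = a v * (a w * a v) * a (v * w) := by rw [e]
      _ = a v * a w * (a v * a (v * w)) := by group
      _ = a v * a w * a (v * w) * a v := by rw [← e3]; group
  have fin : f = 1 → a (v * w) = a v * a w := by
    intro h1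
    have h2 : a v * a w = (a (v * w))⁻¹ := mul_eq_one_iff_eq_inv.1 h1
    rw [h2, inv_eq_of_mul_eq_one_right au]
  rcases h.cen f tf with h1 | h1
  · refine fin (hK f h1 f2 (cf v vK rfl hc).symm (cf w wK hc.symm rfl).symm ?_ cf)
    have h2 : ρ * f * ρ⁻¹ = f := by
      calc ρ * f * ρ⁻¹ = ρ * a v * ρ⁻¹ * (ρ * a w * ρ⁻¹) * (ρ * a (v * w) * ρ⁻¹) := by rw [hf]; group
        _ = a w * a (v * w) * a v := by rw [q1, q2, q3]
        _ = a v * a w * a (v * w) := by rw [mul_assoc, e3, ← mul_assoc, e]
        _ = f := hf.symm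
    calc ρ * f = ρ * f * ρ⁻¹ * ρ := by group
      _ = f * ρ := by rw [h2]
  · exfalso
    -- `f = t k`, `a_v` commutes with `f` and with `k`
    have kv : t * f * v = v * (t * f) := by
      calc t * f * v = t * (f * v) := by group
        _ = t * v * f := by rw [← cf v vK rfl hc]; group
        _ = v * (t * f) := by rw [← h.comm v vK]; group
    have h2 := h.fix v hv _ h1 kv
    apply h.not_comm_t hv hv1
    have h3 : t * a v * f = a v * t * f := by
      calc t * a v * f = t * (a v * f) := by group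
        _ = t * f * a v := by rw [avf]; group
        _ = a v * t * f := by rw [h2]; group
    exact (mul_right_cancel h3).symm

/-! ### pairs of order 4 -/

/-- the word identity behind (N0) -/
theorem word (v w A B C : G) (vv : v * v = 1) (ww : w * w = 1) (hv : v * A = A * v) (hw : w * B = B * w)
    (hvC : v * C = C * v) (CC : C * C = 1) (hCA : C * A = A * C) (hCB : C * B = B * C)
    (hwA : w * A = A * C * w) (hvB : v * B = B * C * v) :
    A * v * B * (A * v * B) = A * (B * w) * (A * (B * w)) := by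
  have h1 : A * v * B * (A * v * B) = A * B * A * B * C := by
    calc A * v * B * (A * v * B) = A * (v * B) * A * (v * B) := by group
      _ = A * B * C * (v * A) * B * C * v := by rw [hvB]; group
      _ = A * B * C * A * (v * B) * C * v := by rw [hv]; group
      _ = A * B * C * A * B * C * (v * C) * v := by rw [hvB]; group
      _ = A * B * C * A * B * (C * C) * (v * v) := by rw [hvC]; group
      _ = A * B * (C * A) * B := by rw [CC, vv]; group
      _ = A * B * A * (C * B) := by rw [hCA]; group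
      _ = A * B * A * B * C := by rw [hCB]; group
  have h2 : A * (B * w) * (A * (B * w)) = A * B * A * B * C := by
    calc A * (B * w) * (A * (B * w)) = A * B * (w * A) * B * w := by group
      _ = A * B * A * C * (w * B) * w := by rw [hwA]; group
      _ = A * B * A * (C * B) * (w * w) := by rw [hw]; group
      _ = A * B * A * B * C := by rw [hCB, ww]; group
  rw [h1, h2]

/-- **(N0)**: `v w` of order 4 (`x = (v w)²`), the lines `(v, x)` and `(w, x)` exact. Then `F v w ∈ K`, its square is 1, it
commutes with `v`, `w` and `C_K(v, w)`. -/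
theorem F_mem (h : Fam t K D a) {v w x : G} (hv : v ∈ D) (hw : w ∈ D) (hx : x ∈ D)
    (ex : v * w * (v * w) = x) (hx1 : x ≠ 1) (hvx : v * x = x * v) (hwx : w * x = x * w)
    (lv : a (v * x) = a v * a x) (lw : a (w * x) = a w * a x) (mv : v * x ∈ D) (mw : w * x ∈ D) :
    F a v w ∈ K ∧ F a v w * F a v w = 1 ∧ F a v w * v = v * F a v w ∧ F a v w * w = w * F a v w ∧
      ∀ c ∈ K, c * v = v * c → c * w = w * c → c * F a v w = F a v w * c := by
  have vv := h.sq v hv
  have ww := h.sq w hw
  have vi : v⁻¹ = v := inv_eq_of_mul_eq_one_right vv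
  have wi : w⁻¹ = w := inv_eq_of_mul_eq_one_right ww
  -- `w v w = v x`, `v w v = w x`
  have e1 : w * v * w⁻¹ = v * x := by
    rw [wi, ← ex]
    calc w * v * w = v * v * w * v * w := by rw [vv, one_mul]
      _ = v * (v * w * (v * w)) := by group
  have e2 : v * w * v⁻¹ = w * x := by
    have h1 : v * w = x * (w * v) := by
      rw [← ex]
      calc v * w = v * w * v * (w * w) * v := by rw [ww, mul_one, mul_assoc (v * w), vv, mul_one]
        _ = v * w * (v * w) * (w * v) := by group
    rw [vi, h1]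
    calc x * (w * v) * v = x * w * (v * v) := by group
      _ = w * x := by rw [vv, mul_one, hwx]
  have wA : w * a v = a v * a x * w := by
    have h1 := h.eqv v hv w (h.DK w hw)
    rw [e1, lv] at h1
    rw [h1]; group
  have vB : v * a w = a w * a x * v := by
    have h1 := h.eqv w hw v (h.DK v hv)
    rw [e2, lw] at h1
    rw [h1]; group
  have vC : v * a x = a x * v := h.fix x hx v (h.DK v hv) hvx
  have CA : a x * a v = a v * a x := (h.line_comm hv hx mv lv).symm
  have CB : a x * a w = a w * a x := (h.line_comm hw hx mw lw).symm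
  have tF : F a v w * t = t * F a v w := by
    have h1 : t * F a v w * t = F a v w := by
      unfold F
      calc t * (a v * b a w * (a v * b a w)) * t
          = t * a v * 1 * b a w * 1 * a v * 1 * b a w * t := by group
        _ = t * a v * (t * t) * b a w * (t * t) * a v * (t * t) * b a w * t := by rw [h.tt]
        _ = t * a v * t * (t * b a w * t) * (t * a v * t * (t * b a w * t)) := by group
        _ = b a v * a w * (b a v * a w) := by rw [h.conj_t hv, h.conj_t' hw]
        _ = a v * (a w * w) * (a v * (a w * w)) :=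
          word v w (a v) (a w) (a x) vv ww (h.av hv) (h.av hw) vC (h.aa x hx) CA CB wA vB
        _ = _ := rfl
    calc F a v w * t = t * F a v w * t * t := by rw [h1]
      _ = t * F a v w * (t * t) := by group
      _ = t * F a v w := by rw [h.tt, mul_one]
  have cF : ∀ c ∈ K, c * v = v * c → c * w = w * c → c * F a v w = F a v w * c := by
    intro c hc cv cw
    have h1 : c * a v = a v * c := h.fix v hv c hc cv
    have h2 : c * b a w = b a w * c := h.dual.fix w hw c hc cw
    unfold F
    calc c * (a v * b a w * (a v * b a w)) = c * a v * b a w * (a v * b a w) := by group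
      _ = a v * (c * b a w) * (a v * b a w) := by rw [h1]; group
      _ = a v * b a w * (c * a v) * b a w := by rw [h2]; group
      _ = a v * b a w * a v * (c * b a w) := by rw [h1]; group
      _ = a v * b a w * (a v * b a w) * c := by rw [h2]; group
  -- `a_v` and `b_w` invert `F`
  have i1 : a v * F a v w * a v * F a v w = 1 := by
    unfold F
    calc a v * (a v * b a w * (a v * b a w)) * a v * (a v * b a w * (a v * b a w))
        = a v * a v * b a w * a v * b a w * (a v * a v) * b a w * (a v * b a w) := by group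
      _ = b a w * a v * (b a w * b a w) * (a v * b a w) := by rw [h.aa v hv]; group
      _ = b a w * (a v * a v) * b a w := by rw [h.bb hw]; group
      _ = 1 := by rw [h.aa v hv, mul_one, h.bb hw]
  have i2 : b a w * F a v w * b a w * F a v w = 1 := by
    unfold F
    calc b a w * (a v * b a w * (a v * b a w)) * b a w * (a v * b a w * (a v * b a w))
        = b a w * a v * b a w * a v * (b a w * b a w) * a v * b a w * (a v * b a w) := by group
      _ = b a w * a v * b a w * (a v * a v) * b a w * (a v * b a w) := by rw [h.bb hw]; group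
      _ = b a w * a v * (b a w * b a w) * (a v * b a w) := by rw [h.aa v hv]; group
      _ = b a w * (a v * a v) * b a w := by rw [h.bb hw]; group
      _ = 1 := by rw [h.aa v hv, mul_one, h.bb hw]
  have key : F a v w ∈ K → F a v w * F a v w = 1 ∧ F a v w * v = v * F a v w ∧
      F a v w * w = w * F a v w := by
    intro hF
    have h1 : a v * F a v w * a v = (F a v w)⁻¹ := eq_inv_of_mul_eq_one_left i1
    have h2 : b a w * F a v w * b a w = (F a v w)⁻¹ := eq_inv_of_mul_eq_one_left i2
    have h3 := h.mem_comm hv hF (by rw [h1]; exact inv_mem hF)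
    have h4 := h.mem_comm' hw hF (by rw [h2]; exact inv_mem hF)
    refine ⟨?_, h3, h4⟩
    have h5 := h.fix v hv _ hF h3
    rw [← h5] at h1
    rw [mul_assoc, h.aa v hv, mul_one] at h1
    exact mul_eq_one_iff_eq_inv.2 h1
  rcases h.cen _ tF with hF | hF
  · obtain ⟨h1, h2, h3⟩ := key hF
    exact ⟨hF, h1, h2, h3, cF⟩
  · exfalso
    set k := t * F a v w with hk
    have eF : F a v w = t * k := by
      rw [hk, ← mul_assoc, h.tt, one_mul]
    have tk : k * t = t * k := h.comm k hF
    -- `c k c = u k⁻¹` for `(c, u) = (a_v, v), (b_w, w)`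
    have sub : ∀ (u c : G), u * u = 1 → c * t * c = t * u → c * c = 1 →
        c * F a v w * c * F a v w = 1 → c * k * c = u * k⁻¹ := by
      intro u c hu h1 hcc h2
      have h3 : t * u * (c * k * c) * (t * k) = 1 := by
        rw [← h2, eF]
        calc t * u * (c * k * c) * (t * k) = c * t * c * (c * k * c) * (t * k) := by rw [h1]
          _ = c * t * (c * c) * k * c * (t * k) := by group
          _ = c * (t * k) * c * (t * k) := by rw [hcc]; group
      have h4 : u * (c * k * c) * k = 1 := by
        have h5 : t * (u * (c * k * c)) * (k * t) = 1 := by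
          rw [tk]
          calc t * (u * (c * k * c)) * (t * k) = t * u * (c * k * c) * (t * k) := by group
            _ = 1 := h3
        calc u * (c * k * c) * k = t * t * (u * (c * k * c) * k) * (t * t) := by
              rw [h.tt, one_mul, mul_one]
          _ = t * (t * (u * (c * k * c)) * (k * t)) * t := by group
          _ = 1 := by rw [h5, mul_one, h.tt]
      calc c * k * c = u * u * (c * k * c) * k * k⁻¹ := by rw [hu]; group
        _ = u * (u * (c * k * c) * k) * k⁻¹ := by group
        _ = u * k⁻¹ := by rw [h4, mul_one]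
    have fin : ∀ (u c : G), u ∈ K → (c * k * c ∈ K → k * c = c * k) → c * c = 1 → c * k * c = u * k⁻¹ →
        k * k = u := by
      intro u c hu h1 hcc h2
      have h3 := h1 (by rw [h2]; exact mul_mem hu (inv_mem hF))
      have h4 : c * k * c = k := by rw [← h3, mul_assoc, hcc, mul_one]
      rw [h4] at h2
      calc k * k = u * k⁻¹ * k := by rw [← h2]
        _ = u := by group
    have k1 : k * k = v := fin v (a v) (h.DK v hv) (fun e => h.fix v hv k hF (h.mem_comm hv hF e)) (h.aa v hv)
      (sub v (a v) vv (h.swap v hv) (h.aa v hv) i1)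
    have k2 : k * k = w := fin w (b a w) (h.DK w hw) (fun e => h.dual.fix w hw k hF (h.mem_comm' hw hF e))
      (h.bb hw) (sub w (b a w) ww (h.dual.swap w hw) (h.bb hw) i2)
    apply hx1
    rw [← ex, ← k2, k1, vv, one_mul]

/-- **(N1)**, the norm lemma -/
theorem norm_comm (h : Fam t K D a) {v w₁ w₂ : G} (hv : v ∈ D) (h1 : w₁ ∈ D) (h2 : w₂ ∈ D)
    (h12 : w₁ * w₂ ∈ D) (hc : w₁ * w₂ = w₂ * w₁) (e : a (w₁ * w₂) = a w₁ * a w₂)
    (f1 : F a v w₁ ∈ K) (f2 : F a v w₂ ∈ K) (f : F a v (w₁ * w₂) ∈ K) :
    F a v w₂ * w₁ = w₁ * F a v w₂ := by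
  have hb := h.b_line h1 h2 hc e
  have hbc : b a w₁ * b a w₂ = b a w₂ * b a w₁ := h.dual.line_comm h1 h2 h12 hb
  have key : F a v (w₁ * w₂) = F a v w₁ * (b a w₁ * F a v w₂ * b a w₁) := by
    unfold F
    rw [hb]
    calc a v * (b a w₁ * b a w₂) * (a v * (b a w₁ * b a w₂))
        = a v * b a w₁ * b a w₂ * a v * (b a w₁ * b a w₂) := by group
      _ = a v * b a w₁ * b a w₂ * a v * (b a w₂ * b a w₁) := by rw [hbc]
      _ = a v * b a w₁ * 1 * b a w₂ * (a v * b a w₂) * b a w₁ := by group
      _ = a v * b a w₁ * (a v * a v) * b a w₂ * (a v * b a w₂) * b a w₁ := by rw [h.aa v hv]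
      _ = a v * b a w₁ * a v * 1 * (a v * b a w₂ * (a v * b a w₂)) * b a w₁ := by group
      _ = a v * b a w₁ * a v * (b a w₁ * b a w₁) * (a v * b a w₂ * (a v * b a w₂)) * b a w₁ := by
          rw [h.bb h1]
      _ = _ := by group
  refine h.mem_comm' h1 f2 ?_
  have h3 : b a w₁ * F a v w₂ * b a w₁ = (F a v w₁)⁻¹ * F a v (w₁ * w₂) := by rw [key]; group
  rw [h3]
  exact mul_mem (inv_mem f1) f

/-- `F v w = 1` as soon as no nontrivial involution of `K` commutes with all the elements of `X` -/
theorem good_of_cen (h : Fam t K D a) {v w : G} (hv : v ∈ D) (hw : w ∈ D) (X : Set G)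
    (f : F a v w ∈ K) (ff : F a v w * F a v w = 1) (hX : ∀ c ∈ X, c * F a v w = F a v w * c)
    (hK : ∀ k ∈ K, k * k = 1 → (∀ c ∈ X, c * k = k * c) → k = 1) : Good a v w :=
  (h.good_iff hv hw).2 (hK _ f ff hX)

/-! ### the end -/

/-- **the generating clique**: `D₀ ⊆ D` pairwise good, generating `K` -/
theorem wr_of_clique (h : Fam t K D a) {D₀ : Set G} (hD : ∀ v ∈ D₀, v ∈ D)
    (hg : ∀ v ∈ D₀, ∀ w ∈ D₀, Good a v w) (hK : closure D₀ = K)
    (hZ : ∀ z ∈ K, (∀ k ∈ K, z * k = k * z) → z = 1) (nab : ∃ x ∈ K, ∃ y ∈ K, x * y ≠ y * x) :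
    Wreath.Wr t K (closure (a '' D₀)) := by
  refine Wreath.wr_of h.tt hK ?_ ?_ ?_ nab
  · intro v hv
    rw [h.conj_t (hD v hv)]
    exact h.mul_b (hD v hv)
  · intro v hv w hw
    rw [h.conj_t (hD w hw)]
    exact hg v hv w hw
  · intro g hgt hgK
    rcases h.cen g hgt with h1 | h1
    · exact Or.inl (hZ g h1 hgK)
    · right
      have h2 : t * g = 1 := by
        refine hZ _ h1 fun k hk => ?_
        calc t * g * k = t * (g * k) := by group
          _ = t * k * g := by rw [hgK k hk]; group
          _ = k * (t * g) := by rw [← h.comm k hk]; group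
      calc g = t * t * g := by rw [h.tt, one_mul]
        _ = t * (t * g) := by group
        _ = t := by rw [h2, mul_one]

/-- **the end**: a generating clique gives a homomorphism onto `{1, -1}` which is `-1` on `t` -/
theorem exists_hom_of_clique [Finite G] (h : Fam t K D a) {D₀ : Set G} (hD : ∀ v ∈ D₀, v ∈ D)
    (hg : ∀ v ∈ D₀, ∀ w ∈ D₀, Good a v w) (hK : closure D₀ = K)
    (hZ : ∀ z ∈ K, (∀ k ∈ K, z * k = k * z) → z = 1) (nab : ∃ x ∈ K, ∃ y ∈ K, x * y ≠ y * x) :
    ∃ m : G →* ℤˣ, m t = -1 :=
  (h.wr_of_clique hD hg hK hZ nab).exists_hom h.cen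

end Fam

/-! ### existence -/

/-- one element `e` with `e² = 1`, `tᵉ = t z`, `[e, C_K(z)] = 1` gives a family on the class of `z` -/
theorem exists_fam {t z e : G} {K : Subgroup G} (tt : t * t = 1) (tK : t ∉ K)
    (comm : ∀ k ∈ K, k * t = t * k) (cen : ∀ g : G, g * t = t * g → g ∈ K ∨ t * g ∈ K) (hz : z ∈ K)
    (zz : z * z = 1) (ee : e * e = 1) (et : e * t * e = t * z)
    (ez : ∀ k ∈ K, k * z = z * k → k * e = e * k) :
    ∃ a : G → G, Fam t K {v | ∃ k ∈ K, v = k * z * k⁻¹} a ∧ a z = e := by
  classical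
  let a : G → G := fun v => if hv : ∃ k ∈ K, v = k * z * k⁻¹ then hv.choose * e * hv.choose⁻¹ else 1
  have ha : ∀ k ∈ K, a (k * z * k⁻¹) = k * e * k⁻¹ := by
    intro k hk
    have hv : ∃ k' ∈ K, k * z * k⁻¹ = k' * z * k'⁻¹ := ⟨k, hk, rfl⟩
    have h1 : a (k * z * k⁻¹) = hv.choose * e * hv.choose⁻¹ := by
      simp only [a]
      rw [dif_pos hv]
    obtain ⟨h2, h3⟩ := hv.choose_spec
    rw [h1]
    set l := hv.choose
    have h4 : l⁻¹ * k * z = z * (l⁻¹ * k) := by
      calc l⁻¹ * k * z = l⁻¹ * (k * z * k⁻¹) * k := by group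
        _ = z * (l⁻¹ * k) := by rw [h3]; group
    have h5 := ez _ (mul_mem (inv_mem h2) hk) h4
    calc l * e * l⁻¹ = l * (e * (l⁻¹ * k)) * k⁻¹ := by group
      _ = k * e * k⁻¹ := by rw [← h5]; group
  have hz1 : a z = e := by
    have := ha 1 (one_mem _)
    simpa using this
  refine ⟨a, ⟨tt, tK, comm, cen, ?_, ?_, ?_, ?_, ?_, ?_, ?_⟩, hz1⟩
  · rintro _ ⟨k, hk, rfl⟩
    exact mul_mem (mul_mem hk hz) (inv_mem hk)
  · rintro _ ⟨k, hk, rfl⟩
    calc k * z * k⁻¹ * (k * z * k⁻¹) = k * (z * z) * k⁻¹ := by group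
      _ = 1 := by rw [zz]; group
  · rintro _ ⟨k, hk, rfl⟩ l hl
    exact ⟨l * k, mul_mem hl hk, by group⟩
  · rintro _ ⟨k, hk, rfl⟩
    rw [ha k hk]
    calc k * e * k⁻¹ * (k * e * k⁻¹) = k * (e * e) * k⁻¹ := by group
      _ = 1 := by rw [ee]; group
  · rintro _ ⟨k, hk, rfl⟩
    rw [ha k hk]
    have h1 : k⁻¹ * t = t * k⁻¹ := comm _ (inv_mem hk)
    calc k * e * k⁻¹ * t * (k * e * k⁻¹) = k * e * (k⁻¹ * t) * k * e * k⁻¹ := by group
      _ = k * (e * t * e) * k⁻¹ := by rw [h1]; group
      _ = k * t * z * k⁻¹ := by rw [et]; group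
      _ = t * (k * z * k⁻¹) := by rw [comm k hk]; group
  · rintro _ ⟨k, hk, rfl⟩ l hl hc
    rw [ha k hk]
    have h1 : k⁻¹ * l * k * z = z * (k⁻¹ * l * k) := by
      calc k⁻¹ * l * k * z = k⁻¹ * (l * (k * z * k⁻¹)) * k := by group
        _ = z * (k⁻¹ * l * k) := by rw [hc]; group
    have h2 := ez _ (mul_mem (mul_mem (inv_mem hk) hl) hk) h1
    calc l * (k * e * k⁻¹) = k * (k⁻¹ * l * k * e) * k⁻¹ := by group
      _ = k * e * k⁻¹ * l := by rw [h2]; group
  · rintro _ ⟨k, hk, rfl⟩ l hl
    have h1 : l * (k * z * k⁻¹) * l⁻¹ = l * k * z * (l * k)⁻¹ := by group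
    rw [h1, ha _ (mul_mem hl hk), ha k hk]
    group

end Cfsg.Agent.OddHalf.D8.Phi
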