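import Cfsg.Agent.OddHalf.D8.Phi.Gen

/-!
# ODD half, D8: exactness of lines up to a bit, twisted pairs of order 4 (helper879)

For an equivariant family (`Phi/Gen.lean`):

* `dl a p q = a_p a_q a_{pq}`, the defect of a line; it commutes with `t` and with `C_K(p, q)` (`dl_comm_t`, `dl_cen`);
* `dl_assoc`: the cocycle identity of three members `u, w, v` of an elementary abelian group;
* `dl_cases`: if `ρ ∈ K` cycles `p → q → p q` and the centraliser in `K` of `C_K(p, q)` is `⟨p, q, y⟩`, `[ρ, y] = 1`, then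
  the defect is `1`, `y`, `t q` or `t q y`;
* `tFt`: if `v w` has order 4, `x = (v w)²` and `a_{vx} = ζ a_v a_x`, `a_{wx} = η a_w a_x` with involutions (or 1) `ζ, η ∈ K`
  commuting with `v, w, x`, then `Fᵗ = η ζ F` for `F = [a_v, b_w]`;
* `F_mul`: `F v (r s) = F v r · (F v s)^{b_r}` for an exact line `(r, s)`.
-/

set_option autoImplicit false

namespace Cfsg.Agent.OddHalf.D8.Phi

variable {G : Type*} [Group G]

/-- the ordered pairs `(p, q)`, `(p', q')` are conjugate in `K` -/
def PC (K : Subgroup G) (p q p' q' : G) : Prop := ∃ g ∈ K, g * p * g⁻¹ = p' ∧ g * q * g⁻¹ = q'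

/-- the triples `(p, q, y)`, `(p', q', y')` are conjugate in `K` -/
def TC (K : Subgroup G) (p q y p' q' y' : G) : Prop :=
  ∃ g ∈ K, g * p * g⁻¹ = p' ∧ g * q * g⁻¹ = q' ∧ g * y * g⁻¹ = y'

/-- the defect of a line -/
def dl (a : G → G) (p q : G) : G := a p * a q * a (p * q)

namespace Fam

variable {t : G} {K : Subgroup G} {D : Set G} {a : G → G}

theorem D_PC (h : Fam t K D a) {p q p' q' : G} (e : PC K p q p' q') (hp : p ∈ D) : p' ∈ D := by
  obtain ⟨g, hg, rfl, _⟩ := e
  exact h.conj p hp g hg

theorem D_PC' (h : Fam t K D a) {p q p' q' : G} (e : PC K p q p' q') (hq : q ∈ D) : q' ∈ D := by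
  obtain ⟨g, hg, _, rfl⟩ := e
  exact h.conj q hq g hg

theorem D_PCm (h : Fam t K D a) {p q p' q' : G} (e : PC K p q p' q') (hpq : p * q ∈ D) : p' * q' ∈ D := by
  obtain ⟨g, hg, rfl, rfl⟩ := e
  have := h.conj _ hpq g hg
  rwa [show g * (p * q) * g⁻¹ = g * p * g⁻¹ * (g * q * g⁻¹) by group] at this

theorem comm_PC {p q p' q' : G} (e : PC K p q p' q') (hc : p * q = q * p) : p' * q' = q' * p' := by
  obtain ⟨g, -, rfl, rfl⟩ := e
  calc g * p * g⁻¹ * (g * q * g⁻¹) = g * (p * q) * g⁻¹ := by group
    _ = g * q * g⁻¹ * (g * p * g⁻¹) := by rw [hc]; group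

theorem F_conj (h : Fam t K D a) {v w g : G} (hv : v ∈ D) (hw : w ∈ D) (hg : g ∈ K) :
    F a (g * v * g⁻¹) (g * w * g⁻¹) = g * F a v w * g⁻¹ := by
  unfold F
  rw [h.eqv v hv g hg, h.dual.eqv w hw g hg]
  group

theorem dl_conj (h : Fam t K D a) {p q g : G} (hp : p ∈ D) (hq : q ∈ D) (hpq : p * q ∈ D) (hg : g ∈ K) :
    dl a (g * p * g⁻¹) (g * q * g⁻¹) = g * dl a p q * g⁻¹ := by
  unfold dl
  rw [show g * p * g⁻¹ * (g * q * g⁻¹) = g * (p * q) * g⁻¹ by group, h.eqv p hp g hg, h.eqv q hq g hg,
    h.eqv _ hpq g hg]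
  group

theorem a_t (h : Fam t K D a) {v : G} (hv : v ∈ D) : a v * t = t * v * a v := by
  rw [← h.swap v hv, mul_assoc, h.aa v hv, mul_one]

theorem dl_comm_t (h : Fam t K D a) {p q : G} (hp : p ∈ D) (hq : q ∈ D) (hpq : p * q ∈ D)
    (hc : p * q = q * p) : dl a p q * t = t * dl a p q := by
  have pK := h.DK p hp
  have qK := h.DK q hq
  have e1 : a q * p = p * a q := (h.fix q hq p pK hc).symm
  have e2 : a p * q = q * a p := (h.fix p hp q qK hc.symm).symm
  have e3 : a (p * q) * p = p * a (p * q) := (h.fix _ hpq p pK (by rw [mul_assoc, hc])).symm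
  unfold dl
  calc a p * a q * a (p * q) * t = a p * a q * (a (p * q) * t) := by group
    _ = a p * (a q * t) * (p * q) * a (p * q) := by rw [h.a_t hpq]; group
    _ = a p * t * q * (a q * p) * q * a (p * q) := by rw [h.a_t hq]; group
    _ = a p * t * (q * p) * (a q * q) * a (p * q) := by rw [e1]; group
    _ = a p * t * (p * q) * (q * a q) * a (p * q) := by rw [← hc, ← h.av hq]
    _ = a p * t * p * (q * q) * a q * a (p * q) := by group
    _ = t * p * (a p * p) * a q * a (p * q) := by rw [h.sq q hq, h.a_t hp]; group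
    _ = t * (p * p) * a p * a q * a (p * q) := by rw [← h.av hp]; group
    _ = t * (a p * a q * a (p * q)) := by rw [h.sq p hp]; group

theorem dl_cen (h : Fam t K D a) {p q c : G} (hp : p ∈ D) (hq : q ∈ D) (hpq : p * q ∈ D) (hc : c ∈ K)
    (cp : c * p = p * c) (cq : c * q = q * c) : c * dl a p q = dl a p q * c := by
  have h1 := h.fix p hp c hc cp
  have h2 := h.fix q hq c hc cq
  have h3 := h.fix _ hpq c hc (by rw [← mul_assoc, cp, mul_assoc, cq, mul_assoc])
  unfold dl
  calc c * (a p * a q * a (p * q)) = c * a p * a q * a (p * q) := by group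
    _ = a p * (c * a q) * a (p * q) := by rw [h1]; group
    _ = a p * a q * (c * a (p * q)) := by rw [h2]; group
    _ = a p * a q * a (p * q) * c := by rw [h3]; group

/-- `a_p a_q = dl · a_{pq}` -/
theorem dl_mul (h : Fam t K D a) {p q : G} (hpq : p * q ∈ D) : a p * a q = dl a p q * a (p * q) := by
  unfold dl
  rw [mul_assoc (a p * a q), h.aa _ hpq, mul_one]

/-- the cocycle identity -/
theorem dl_assoc (h : Fam t K D a) {u w v : G} (hu : u ∈ D) (huw : u * w ∈ D) (hwv : w * v ∈ D) :
    dl a u w * dl a (u * w) v = a u * dl a w v * a u * dl a u (w * v) := by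
  unfold dl
  calc a u * a w * a (u * w) * (a (u * w) * a v * a (u * w * v))
      = a u * a w * (a (u * w) * a (u * w)) * a v * a (u * w * v) := by group
    _ = a u * a w * a v * a (u * w * v) := by rw [h.aa _ huw, mul_one]
    _ = a u * a w * a v * (a (w * v) * a (w * v)) * a (u * (w * v)) := by
        rw [h.aa _ hwv, mul_one, mul_assoc u w v]
    _ = a u * (a w * a v * a (w * v)) * 1 * a (w * v) * a (u * (w * v)) := by group
    _ = a u * (a w * a v * a (w * v)) * (a u * a u) * a (w * v) * a (u * (w * v)) := by rw [h.aa _ hu]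
    _ = a u * (a w * a v * a (w * v)) * a u * (a u * a (w * v) * a (u * (w * v))) := by group

/-- **the defect of a line**, given the centraliser in `K` of `C_K(p, q)` -/
theorem dl_cases (h : Fam t K D a) {p q y ρ : G} (hp : p ∈ D) (hq : q ∈ D) (hpq : p * q ∈ D)
    (hc : p * q = q * p) (p1 : p ≠ 1) (q1 : q ≠ 1) (npq : p ≠ q) (hρ : ρ ∈ K) (r1 : ρ * p * ρ⁻¹ = q)
    (r2 : ρ * q * ρ⁻¹ = p * q) (yy : y * y = 1) (yp : y * p = p * y) (yq : y * q = q * y)
    (ry : ρ * y * ρ⁻¹ = y)
    (hK : ∀ k ∈ K, (∀ c ∈ K, c * p = p * c → c * q = q * c → c * k = k * c) →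
      ∃ m : G, (m = 1 ∨ m = p ∨ m = q ∨ m = p * q) ∧ (k = m ∨ k = m * y)) :
    dl a p q = 1 ∨ dl a p q = y ∨ dl a p q = t * q ∨ dl a p q = t * (q * y) := by
  have pK := h.DK p hp
  have qK := h.DK q hq
  have pp := h.sq p hp
  have qq := h.sq q hq
  have ap := h.aa p hp
  have aq := h.aa q hq
  have au := h.aa _ hpq
  have q1' : ρ * a p * ρ⁻¹ = a q := by rw [← h.eqv p hp ρ hρ, r1]
  have q2' : ρ * a q * ρ⁻¹ = a (p * q) := by rw [← h.eqv q hq ρ hρ, r2]
  have r3 : ρ * (p * q) * ρ⁻¹ = p := by
    calc ρ * (p * q) * ρ⁻¹ = ρ * p * ρ⁻¹ * (ρ * q * ρ⁻¹) := by group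
      _ = q * p * q := by rw [r1, r2]; group
      _ = p * (q * q) := by rw [← hc]; group
      _ = p := by rw [qq, mul_one]
  have q3' : ρ * a (p * q) * ρ⁻¹ = a p := by rw [← h.eqv _ hpq ρ hρ, r3]
  have tρ : ρ * t * ρ⁻¹ = t := by rw [h.comm ρ hρ]; group
  set f := dl a p q with hf
  have tf : f * t = t * f := h.dl_comm_t hp hq hpq hc
  have cf : ∀ c ∈ K, c * p = p * c → c * q = q * c → c * f = f * c := fun c hc' cp cq => h.dl_cen hp hq hpq hc' cp cq
  have fm : a p * a q = f * a (p * q) := h.dl_mul hpq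
  -- `f` commutes with `a_{pq}`, `a_p`, `a_q` up to `t`-parts; treat `k`
  have fixk : ∀ k ∈ K, k * p = p * k → k * q = q * k →
      k * a p = a p * k ∧ k * a q = a q * k ∧ k * a (p * q) = a (p * q) * k := by
    intro k hk kp kq
    exact ⟨h.fix p hp k hk kp, h.fix q hq k hk kq,
      h.fix _ hpq k hk (by rw [← mul_assoc, kp, mul_assoc, kq, mul_assoc])⟩
  -- the conjugate of an element of the list
  have conjm : ∀ m : G, (m = 1 ∨ m = p ∨ m = q ∨ m = p * q) →
      (m = 1 ∧ ρ * m * ρ⁻¹ = 1) ∨ (m = p ∧ ρ * m * ρ⁻¹ = q) ∨ (m = q ∧ ρ * m * ρ⁻¹ = p * q) ∨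
      (m = p * q ∧ ρ * m * ρ⁻¹ = p) := by
    rintro m (rfl | rfl | rfl | rfl)
    · exact Or.inl ⟨rfl, by group⟩
    · exact Or.inr (Or.inl ⟨rfl, r1⟩)
    · exact Or.inr (Or.inr (Or.inl ⟨rfl, r2⟩))
    · exact Or.inr (Or.inr (Or.inr ⟨rfl, r3⟩))
  rcases h.cen f tf with hfK | hfK
  · -- `f = k ∈ K`
    obtain ⟨m, hm, hfm⟩ := hK f hfK cf
    have kp : f * p = p * f := (cf p pK rfl hc).symm
    have kq : f * q = q * f := (cf q qK hc.symm rfl).symm
    obtain ⟨c1, c2, c3⟩ := fixk f hfK kp kq
    -- `ρ f ρ⁻¹ = f`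
    have key : ρ * f * ρ⁻¹ = f := by
      have e1 : a q = f * (a p * a (p * q)) := by
        calc a q = a p * a p * a q := by rw [ap, one_mul]
          _ = a p * (a p * a q) := by group
          _ = a p * f * a (p * q) := by rw [fm]; group
          _ = f * (a p * a (p * q)) := by rw [← c1]; group
      have e2 : ρ * (a p * a q) * ρ⁻¹ = a q * a (p * q) := by
        calc ρ * (a p * a q) * ρ⁻¹ = ρ * a p * ρ⁻¹ * (ρ * a q * ρ⁻¹) := by group
          _ = a q * a (p * q) := by rw [q1', q2']
      rw [fm] at e2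
      have e3 : ρ * (f * a (p * q)) * ρ⁻¹ = ρ * f * ρ⁻¹ * a p := by
        calc ρ * (f * a (p * q)) * ρ⁻¹ = ρ * f * ρ⁻¹ * (ρ * a (p * q) * ρ⁻¹) := by group
          _ = _ := by rw [q3']
      rw [e3] at e2
      have e4 : a q * a (p * q) = f * a p := by
        rw [e1]
        calc f * (a p * a (p * q)) * a (p * q) = f * a p * (a (p * q) * a (p * q)) := by group
          _ = f * a p := by rw [au, mul_one]
      rw [e4] at e2
      exact mul_right_cancel e2
    have hmm : ρ * m * ρ⁻¹ = m := by
      rcases hfm with e | e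
      · rw [← e]; exact key
      · have h1 : ρ * m * ρ⁻¹ * y = m * y := by
          calc ρ * m * ρ⁻¹ * y = ρ * m * ρ⁻¹ * (ρ * y * ρ⁻¹) := by rw [ry]
            _ = ρ * (m * y) * ρ⁻¹ := by group
            _ = m * y := by rw [← e]; exact key
        exact mul_right_cancel h1
    have m1 : m = 1 := by
      rcases conjm m hm with ⟨e, _⟩ | ⟨e, e'⟩ | ⟨e, e'⟩ | ⟨e, e'⟩
      · exact e
      · exact absurd (e.symm.trans (hmm.symm.trans e')) npq
      · exfalso
        have h1 : p * q = q := by rw [← e', hmm, e]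
        exact p1 (mul_eq_right.1 h1)
      · exfalso
        have h1 : p * q = p := by rw [← e, ← hmm, e']
        exact q1 (mul_eq_left.1 h1)
    subst m1
    rcases hfm with e | e
    · exact Or.inl e
    · exact Or.inr (Or.inl (by rw [e, one_mul]))
  · -- `t f = k ∈ K`
    have kp : t * f * p = p * (t * f) := by
      calc t * f * p = t * (f * p) := by group
        _ = t * p * f := by rw [← cf p pK rfl hc]; group
        _ = p * (t * f) := by rw [← h.comm p pK]; group
    have kq : t * f * q = q * (t * f) := by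
      calc t * f * q = t * (f * q) := by group
        _ = t * q * f := by rw [← cf q qK hc.symm rfl]; group
        _ = q * (t * f) := by rw [← h.comm q qK]; group
    have ck : ∀ c ∈ K, c * p = p * c → c * q = q * c → c * (t * f) = t * f * c := by
      intro c hcK cp cq
      calc c * (t * f) = c * t * f := by group
        _ = t * (c * f) := by rw [h.comm c hcK]; group
        _ = t * f * c := by rw [cf c hcK cp cq]; group
    obtain ⟨m, hm, hfm⟩ := hK (t * f) hfK ck
    obtain ⟨c1, c2, c3⟩ := fixk (t * f) hfK kp kq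
    set k := t * f with hk
    have ft : f = t * k := by rw [hk, ← mul_assoc, h.tt, one_mul]
    have kt : k * t = t * k := h.comm k hfK
    have ym : y * m = m * y := by
      rcases hm with rfl | rfl | rfl | rfl
      · rw [mul_one, one_mul]
      · exact yp
      · exact yq
      · calc y * (p * q) = y * p * q := by group
          _ = p * (y * q) := by rw [yp]; group
          _ = p * q * y := by rw [yq]; group
    have mm : m * m = 1 := by
      rcases hm with rfl | rfl | rfl | rfl
      · exact one_mul _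
      · exact pp
      · exact qq
      · calc p * q * (p * q) = p * (q * p) * q := by group
          _ = p * p * (q * q) := by rw [← hc]; group
          _ = 1 := by rw [pp, qq, one_mul]
    have kk : k * k = 1 := by
      rcases hfm with e | e
      · rw [e, mm]
      · rw [e]
        calc m * y * (m * y) = m * (y * m) * y := by group
          _ = m * m * (y * y) := by rw [ym]; group
          _ = 1 := by rw [mm, yy, one_mul]
    have kk' : k⁻¹ = k := inv_eq_of_mul_eq_one_right kk
    -- `a_p a_q = t k a_{pq}`, `(a_p a_q)² = p q`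
    have fm' : a p * a q = t * k * a (p * q) := by rw [fm, ft]
    have sqr : a p * a q * (a p * a q) = p * q := by
      rw [fm']
      calc t * k * a (p * q) * (t * k * a (p * q)) = t * k * (a (p * q) * t) * k * a (p * q) := by group
        _ = t * k * t * (p * q) * a (p * q) * k * a (p * q) := by rw [h.a_t hpq]; group
        _ = t * (k * t) * (p * q) * (a (p * q) * k) * a (p * q) := by group
        _ = t * t * k * (p * q) * k * (a (p * q) * a (p * q)) := by rw [kt, ← c3]; group
        _ = k * (p * q) * k := by rw [h.tt, au]; group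
        _ = k * p * (q * k) := by group
        _ = p * (k * k) * q := by rw [kp, ← kq]; group
        _ = p * q := by rw [kk, mul_one]
    have flip : a p * a q = p * q * (a q * a p) := by
      rw [← sqr]
      calc a p * a q = a p * a q * a p * 1 * (a p) := by
            rw [mul_one, mul_assoc (a p * a q), ap, mul_one]
        _ = a p * a q * a p * (a q * a q) * a p := by rw [aq]
        _ = a p * a q * (a p * a q) * (a q * a p) := by group
    -- `ρ k ρ⁻¹ = k p`
    have key : ρ * k * ρ⁻¹ = k * p := by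
      have e2 : ρ * (a p * a q) * ρ⁻¹ = a q * a (p * q) := by
        calc ρ * (a p * a q) * ρ⁻¹ = ρ * a p * ρ⁻¹ * (ρ * a q * ρ⁻¹) := by group
          _ = a q * a (p * q) := by rw [q1', q2']
      rw [fm'] at e2
      have e3 : ρ * (t * k * a (p * q)) * ρ⁻¹ = t * (ρ * k * ρ⁻¹) * a p := by
        calc ρ * (t * k * a (p * q)) * ρ⁻¹ = ρ * t * ρ⁻¹ * (ρ * k * ρ⁻¹) * (ρ * a (p * q) * ρ⁻¹) := by group
          _ = _ := by rw [q3', tρ]
      rw [e3] at e2
      -- `a_{pq} = t k a_p a_q`
      have e5 : a (p * q) = t * k * (a p * a q) := by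
        rw [fm']
        calc a (p * q) = t * t * (k * k) * a (p * q) := by rw [h.tt, kk, one_mul, one_mul]
          _ = t * (t * k) * k * a (p * q) := by group
          _ = t * (k * t) * k * a (p * q) := by rw [kt]
          _ = t * k * (t * k * a (p * q)) := by group
      have e4 : a q * a (p * q) = t * (k * p) * a p := by
        rw [e5]
        calc a q * (t * k * (a p * a q)) = a q * t * k * (a p * a q) := by group
          _ = t * q * (a q * k) * (a p * a q) := by rw [h.a_t hq]; group
          _ = t * q * k * (a q * (a p * a q)) := by rw [← c2]; group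
          _ = t * q * k * (a q * (p * q * (a q * a p))) := by rw [flip]
          _ = t * q * k * (a q * p) * q * (a q * a p) := by group
          _ = t * q * k * p * (a q * q) * (a q * a p) := by rw [← h.fix q hq p pK hc]; group
          _ = t * q * k * p * q * (a q * a q) * a p := by rw [← h.av hq]; group
          _ = t * (q * (k * p) * q) * a p := by rw [aq]; group
          _ = t * (q * p * (k * q)) * a p := by rw [kp]; group
          _ = t * (q * p * q * k) * a p := by rw [kq]; group
          _ = t * (p * (q * q) * k) * a p := by rw [← hc]; group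
          _ = t * (k * p) * a p := by rw [qq, kp]; group
      rw [e4] at e2
      have e6 := mul_right_cancel e2
      exact mul_left_cancel e6
    have hmm : ρ * m * ρ⁻¹ = m * p := by
      rcases hfm with e | e
      · rw [← e]; exact key
      · have h1 : ρ * m * ρ⁻¹ * y = m * p * y := by
          calc ρ * m * ρ⁻¹ * y = ρ * m * ρ⁻¹ * (ρ * y * ρ⁻¹) := by rw [ry]
            _ = ρ * (m * y) * ρ⁻¹ := by group
            _ = m * y * p := by rw [← e]; exact key
            _ = m * p * y := by rw [mul_assoc, yp, mul_assoc]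
        exact mul_right_cancel h1
    have m1 : m = q := by
      rcases conjm m hm with ⟨e, e'⟩ | ⟨e, e'⟩ | ⟨e, e'⟩ | ⟨e, e'⟩
      · exfalso
        rw [e', e, one_mul] at hmm
        exact p1 hmm.symm
      · exfalso
        rw [e', e, pp] at hmm
        exact q1 hmm
      · exact e
      · exfalso
        rw [e', e] at hmm
        apply npq
        calc p = p * q * p := hmm
          _ = p * (q * p) := by group
          _ = p * p * q := by rw [← hc]; group
          _ = q := by rw [pp, one_mul]
    rcases hfm with e | e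
    · exact Or.inr (Or.inr (Or.inl (by rw [ft, e, m1])))
    · exact Or.inr (Or.inr (Or.inr (by rw [ft, e, m1])))

/-- **(N0), twisted** -/
theorem tFt (h : Fam t K D a) {v w x ζ η : G} (hv : v ∈ D) (hw : w ∈ D) (hx : x ∈ D)
    (ex : v * w * (v * w) = x) (hvx : v * x = x * v) (hwx : w * x = x * w)
    (mv : v * x ∈ D) (mw : w * x ∈ D) (lv : a (v * x) = ζ * a v * a x) (lw : a (w * x) = η * a w * a x)
    (cv : a v * a x = a x * a v) (cw : a w * a x = a x * a w)
    (ζK : ζ ∈ K) (ηK : η ∈ K) (ζζ : ζ * ζ = 1) (ηη : η * η = 1)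
    (ζv : ζ * v = v * ζ) (ζw : ζ * w = w * ζ) (ζx : ζ * x = x * ζ)
    (ηv : η * v = v * η) (ηw : η * w = w * η) (ηx : η * x = x * η) :
    t * F a v w * t = η * (ζ * F a v w) := by
  have vv := h.sq v hv
  have ww := h.sq w hw
  have vi : v⁻¹ = v := inv_eq_of_mul_eq_one_right vv
  have wi : w⁻¹ = w := inv_eq_of_mul_eq_one_right ww
  have e1 : w * v * w⁻¹ = v * x := by
    rw [wi, ← ex]
    calc w * v * w = v * v * w * v * w := by rw [vv, one_mul]
      _ = v * (v * w * (v * w)) := by group
  have e2 : v * w * v⁻¹ = w * x := by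
    have h1 : v * w = x * (w * v) := by
      rw [← ex]
      calc v * w = v * w * v * (w * w) * v := by rw [ww, mul_one, mul_assoc (v * w), vv, mul_one]
        _ = v * w * (v * w) * (w * v) := by group
    rw [vi, h1]
    calc x * (w * v) * v = x * w * (v * v) := by group
      _ = w * x := by rw [vv, mul_one, hwx]
  have wA : w * a v = ζ * a v * a x * w := by
    have h1 := h.eqv v hv w (h.DK w hw)
    rw [e1, lv] at h1
    rw [h1]; group
  have vB : v * a w = η * a w * a x * v := by
    have h1 := h.eqv w hw v (h.DK v hv)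
    rw [e2, lw] at h1
    rw [h1]; group
  have vC : v * a x = a x * v := h.fix x hx v (h.DK v hv) hvx
  have wC : w * a x = a x * w := h.fix x hx w (h.DK w hw) hwx
  have ζA := h.fix v hv ζ ζK ζv
  have ζB := h.fix w hw ζ ζK ζw
  have ζC := h.fix x hx ζ ζK ζx
  have ηA := h.fix v hv η ηK ηv
  have ηB := h.fix w hw η ηK ηw
  have ηC := h.fix x hx η ηK ηx
  have hvA := h.av hv
  have hwB := h.av hw
  have aux : a x * a x = 1 := h.aa x hx
  set A := a v with hA
  set B := a w with hB
  set C := a x with hC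
  -- the common value `A B A C B`
  have h1 : A * v * B * (A * v * B) = η * (A * B * A * C * B) := by
    calc A * v * B * (A * v * B) = A * (v * B) * A * (v * B) := by group
      _ = (A * η) * B * C * (v * A) * η * B * C * v := by rw [vB]; group
      _ = η * A * B * C * A * (v * η) * B * C * v := by rw [← ηA, hvA]; group
      _ = η * A * B * C * (A * η) * (v * B) * C * v := by rw [← ηv]; group
      _ = η * A * B * (C * η) * A * (v * B) * C * v := by rw [← ηA]; group
      _ = η * A * (B * η) * C * A * (v * B) * C * v := by rw [← ηC]; group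
      _ = η * (A * η) * B * C * A * (v * B) * C * v := by rw [← ηB]; group
      _ = (η * η) * A * B * C * A * (v * B) * C * v := by rw [← ηA]; group
      _ = A * B * C * (A * η) * B * C * (v * C) * v := by rw [ηη, vB]; group
      _ = A * B * (C * η) * A * B * C * C * (v * v) := by rw [← ηA, vC]; group
      _ = A * (B * η) * C * A * B * (C * C) := by rw [← ηC, vv]; group
      _ = (A * η) * B * C * A * B := by rw [← ηB, aux]; group
      _ = η * (A * B * (C * A) * B) := by rw [← ηA]; group
      _ = η * (A * B * A * C * B) := by rw [← cv]; group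
  have h2 : A * (B * w) * (A * (B * w)) = ζ * (A * B * A * C * B) := by
    calc A * (B * w) * (A * (B * w)) = A * B * (w * A) * B * w := by group
      _ = A * (B * ζ) * A * C * (w * B) * w := by rw [wA]; group
      _ = (A * ζ) * B * A * C * B * (w * w) := by rw [← ζB, hwB]; group
      _ = ζ * (A * B * A * C * B) := by rw [← ζA, ww]; group
  have h3 : t * F a v w * t = A * v * B * (A * v * B) := by
    unfold F
    calc t * (a v * b a w * (a v * b a w)) * t
        = t * a v * 1 * b a w * 1 * a v * 1 * b a w * t := by group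
      _ = t * a v * (t * t) * b a w * (t * t) * a v * (t * t) * b a w * t := by rw [h.tt]
      _ = t * a v * t * (t * b a w * t) * (t * a v * t * (t * b a w * t)) := by group
      _ = b a v * a w * (b a v * a w) := by rw [h.conj_t hv, h.conj_t' hw]
  have h4 : F a v w = ζ * (A * B * A * C * B) := h2
  rw [h3, h1, h4, ← mul_assoc ζ ζ, ζζ, one_mul]

/-- the norm formula -/
theorem F_mul (h : Fam t K D a) {v w₁ w₂ : G} (hv : v ∈ D) (h1 : w₁ ∈ D) (h2 : w₂ ∈ D)
    (h12 : w₁ * w₂ ∈ D) (hc : w₁ * w₂ = w₂ * w₁) (e : a (w₁ * w₂) = a w₁ * a w₂) :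
    F a v (w₁ * w₂) = F a v w₁ * (b a w₁ * F a v w₂ * b a w₁) := by
  have hb := h.b_line h1 h2 hc e
  have hbc : b a w₁ * b a w₂ = b a w₂ * b a w₁ := h.dual.line_comm h1 h2 h12 hb
  unfold F
  rw [hb]
  calc a v * (b a w₁ * b a w₂) * (a v * (b a w₁ * b a w₂))
      = a v * b a w₁ * b a w₂ * a v * (b a w₁ * b a w₂) := by group
    _ = a v * b a w₁ * b a w₂ * a v * (b a w₂ * b a w₁) := by rw [hbc]
    _ = a v * b a w₁ * 1 * b a w₂ * (a v * b a w₂) * b a w₁ := by group
    _ = a v * b a w₁ * (a v * a v) * b a w₂ * (a v * b a w₂) * b a w₁ := by rw [h.aa v hv]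
    _ = a v * b a w₁ * a v * 1 * (a v * b a w₂ * (a v * b a w₂)) * b a w₁ := by group
    _ = a v * b a w₁ * a v * (b a w₁ * b a w₁) * (a v * b a w₂ * (a v * b a w₂)) * b a w₁ := by
        rw [h.bb h1]
    _ = _ := by group

end Fam

end Cfsg.Agent.OddHalf.D8.Phi
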